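import Mathlib
import Cfsg.Agent.Lib.Base.Cores
import Cfsg.Agent.Lib.Coprime.Action2

/-!
# Involutions acting on groups of odd order: inverted elements
-/

set_option autoImplicit false
set_option linter.style.haveILetI false

namespace CfsgLib.Signalizer2

open Subgroup
open scoped commutatorElement

variable {G : Type*} [Group G]

theorem odd_orderOf {H : Subgroup G} (hH : Odd (Nat.card H)) {x : G} (hx : x ∈ H) :
    Odd (orderOf x) :=
  hH.of_dvd_nat (orderOf_coe (⟨x, hx⟩ : H) ▸ orderOf_dvd_natCard _)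

theorem mem_of_sq_mem {K : Subgroup G} {x : G} (hx : Odd (orderOf x)) (h : x ^ 2 ∈ K) : x ∈ K := by
  obtain ⟨m, hm⟩ := hx
  have e : (x ^ 2) ^ (m + 1) = x := by
    rw [← pow_mul, show 2 * (m + 1) = orderOf x + 1 by omega, pow_succ, pow_orderOf_eq_one, one_mul]
  exact e ▸ pow_mem h _

theorem eq_one_of_eq_inv {x : G} (hx : Odd (orderOf x)) (h : x = x⁻¹) : x = 1 := by
  have h2 : x ^ 2 ∈ (⊥ : Subgroup G) := by
    rw [Subgroup.mem_bot, sq]; nth_rw 1 [h]; rw [inv_mul_cancel]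
  simpa using mem_of_sq_mem hx h2

theorem card_odd_of_le {H K : Subgroup G} (h : H ≤ K) (hK : Odd (Nat.card K)) : Odd (Nat.card H) :=
  hK.of_dvd_nat (Subgroup.card_dvd_of_le h)

theorem inv_eq_self_of_sq {c : G} (hc : c * c = 1) : c⁻¹ = c := inv_eq_of_mul_eq_one_right hc

theorem mem_centralizer_singleton_iff_conj {c x : G} :
    x ∈ centralizer ({c} : Set G) ↔ c * x * c⁻¹ = x := by
  rw [Subgroup.mem_centralizer_singleton_iff, mul_inv_eq_iff_eq_mul]
  exact eq_comm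

/-- A subgroup normalised by `x` and normalising an `x`-invariant subgroup meeting it trivially. -/
theorem commute_of_normalize {X Y : Subgroup G} (hd : X ⊓ Y = ⊥) {x y : G} (hx : x ∈ X) (hy : y ∈ Y)
    (hxY : x ∈ normalizer (Y : Set G)) (hyX : y ∈ normalizer (X : Set G)) : x * y = y * x := by
  rw [← commutatorElement_eq_one_iff_mul_comm, ← Subgroup.mem_bot, ← hd]
  refine mem_inf.2 ⟨?_, ?_⟩
  · have e : ⁅x, y⁆ = x * (y * x⁻¹ * y⁻¹) := by group
    rw [e]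
    exact mul_mem hx ((mem_normalizer_iff.1 hyX _).1 (inv_mem hx))
  · have e : ⁅x, y⁆ = (x * y * x⁻¹) * y⁻¹ := by group
    rw [e]
    exact mul_mem ((mem_normalizer_iff.1 hxY _).1 hy) (inv_mem hy)

theorem le_centralizer_of_normalize {X Y : Subgroup G} (hd : X ⊓ Y = ⊥)
    (hxY : X ≤ normalizer (Y : Set G)) (hyX : Y ≤ normalizer (X : Set G)) :
    X ≤ centralizer (Y : Set G) := fun x hx =>
  mem_centralizer_iff.2 fun y hy => (commute_of_normalize hd hx hy (hxY hx) (hyX hy)).symm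

/-- The subgroup generated by the elements of `Q` inverted by `c`. -/
def invGen (Q : Subgroup G) (c : G) : Subgroup G :=
  closure {x | x ∈ Q ∧ c * x * c⁻¹ = x⁻¹}

theorem invGen_le_iff {Q R : Subgroup G} {c : G} :
    invGen Q c ≤ R ↔ ∀ x ∈ Q, c * x * c⁻¹ = x⁻¹ → x ∈ R := by
  rw [invGen, closure_le]
  exact ⟨fun h x h1 h2 => h ⟨h1, h2⟩, fun h x hx => h x hx.1 hx.2⟩

theorem mem_invGen {Q : Subgroup G} {c x : G} (hx : x ∈ Q) (hi : c * x * c⁻¹ = x⁻¹) :
    x ∈ invGen Q c := subset_closure ⟨hx, hi⟩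

theorem invGen_le (Q : Subgroup G) (c : G) : invGen Q c ≤ Q :=
  invGen_le_iff.2 fun _ hx _ => hx

theorem invGen_mono {Q R : Subgroup G} (h : Q ≤ R) (c : G) : invGen Q c ≤ invGen R c :=
  invGen_le_iff.2 fun _ hx hi => mem_invGen (h hx) hi

theorem invGen_idem (Q : Subgroup G) (c : G) : invGen (invGen Q c) c = invGen Q c :=
  le_antisymm (invGen_le _ _) (invGen_le_iff.2 fun _ hx hi => mem_invGen (mem_invGen hx hi) hi)

theorem map_conj_invGen {Q : Subgroup G} {c g : G} (hgc : Commute g c)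
    (hg : g ∈ normalizer (Q : Set G)) : g ∈ normalizer (invGen Q c : Set G) := by
  suffices key : ∀ h : G, Commute h c → h ∈ normalizer (Q : Set G) →
      ∀ x ∈ invGen Q c, h * x * h⁻¹ ∈ invGen Q c by
    refine mem_normalizer_iff.2 fun x => ⟨key g hgc hg x, fun hx => ?_⟩
    simpa [mul_assoc] using key g⁻¹ hgc.inv_left (inv_mem hg) _ hx
  intro h hhc hh x hx
  have hle : (invGen Q c).map (MulAut.conj h).toMonoidHom ≤ invGen Q c := by
    rw [map_le_iff_le_comap, invGen_le_iff]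
    intro y hy hi
    refine mem_invGen ((mem_normalizer_iff.1 hh y).1 hy) ?_
    show c * (h * y * h⁻¹) * c⁻¹ = (h * y * h⁻¹)⁻¹
    calc c * (h * y * h⁻¹) * c⁻¹ = (c * h) * y * (h⁻¹ * c⁻¹) := by group
      _ = (h * c) * y * (c⁻¹ * h⁻¹) := by
          rw [hhc.eq, show h⁻¹ * c⁻¹ = c⁻¹ * h⁻¹ from hhc.inv_inv.eq]
      _ = h * (c * y * c⁻¹) * h⁻¹ := by group
      _ = _ := by rw [hi]; group
  exact hle ⟨x, hx, rfl⟩

theorem le_normalizer_invGen_of_commute {Q R : Subgroup G} {c : G}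
    (hQ : R ≤ normalizer (Q : Set G)) (hc : R ≤ centralizer ({c} : Set G)) :
    R ≤ normalizer (invGen Q c : Set G) := fun _ hg =>
  map_conj_invGen (mem_centralizer_singleton_iff.1 (hc hg)) (hQ hg)

/-- An element inverted by `c` has an inverted square root. -/
theorem exists_sqrt {c i : G} (hi : Odd (orderOf i)) (hinv : c * i * c⁻¹ = i⁻¹) :
    ∃ j ∈ zpowers i, j ^ 2 = i ∧ c * j * c⁻¹ = j⁻¹ := by
  obtain ⟨m, hm⟩ := hi
  refine ⟨i ^ (m + 1), npow_mem_zpowers i _, ?_, ?_⟩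
  · rw [← pow_mul, show (m + 1) * 2 = orderOf i + 1 by omega, pow_succ, pow_orderOf_eq_one, one_mul]
  · rw [← conj_pow, hinv, inv_pow]

/-- `Q = C_Q(c) · (elements inverted by c)`. -/
theorem exists_fixed_mul_inverted {Q : Subgroup G} (hQ : Odd (Nat.card Q)) {c : G} (hc : c * c = 1)
    (hcQ : c ∈ normalizer (Q : Set G)) {k : G} (hk : k ∈ Q) :
    ∃ f i, f ∈ Q ∧ f ∈ centralizer ({c} : Set G) ∧ i ∈ Q ∧ c * i * c⁻¹ = i⁻¹ ∧ k = f * i := by
  have hci := inv_eq_self_of_sq hc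
  set i₀ := k⁻¹ * (c * k * c⁻¹) with hi₀
  have hi₀Q : i₀ ∈ Q := mul_mem (inv_mem hk) ((mem_normalizer_iff.1 hcQ k).1 hk)
  have hinv : c * i₀ * c⁻¹ = i₀⁻¹ := by
    calc c * i₀ * c⁻¹ = (c * k⁻¹ * c⁻¹) * ((c * c) * k * (c * c)⁻¹) := by rw [hi₀]; group
      _ = (c * k⁻¹ * c⁻¹) * k := by rw [hc]; group
      _ = _ := by rw [hi₀]; group
  obtain ⟨j, hj, hj2, hjinv⟩ := exists_sqrt (odd_orderOf hQ hi₀Q) hinv
  have hjQ : j ∈ Q := zpowers_le.2 hi₀Q hj
  refine ⟨k * j, j⁻¹, mul_mem hk hjQ, ?_, inv_mem hjQ, ?_, by group⟩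
  · rw [mem_centralizer_singleton_iff_conj]
    calc c * (k * j) * c⁻¹ = (c * k * c⁻¹) * (c * j * c⁻¹) := by group
      _ = (k * i₀) * j⁻¹ := by rw [hjinv, hi₀]; group
      _ = k * j := by rw [← hj2]; group
  · calc c * j⁻¹ * c⁻¹ = (c * j * c⁻¹)⁻¹ := by group
      _ = _ := by rw [hjinv]

theorem sup_invGen {Q : Subgroup G} (hQ : Odd (Nat.card Q)) {c : G} (hc : c * c = 1)
    (hcQ : c ∈ normalizer (Q : Set G)) :
    (Q ⊓ centralizer ({c} : Set G)) ⊔ invGen Q c = Q := by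
  refine le_antisymm (sup_le inf_le_left (invGen_le _ _)) fun k hk => ?_
  obtain ⟨f, i, hf, hfc, hi, hinv, rfl⟩ := exists_fixed_mul_inverted hQ hc hcQ hk
  exact mul_mem_sup (mem_inf.2 ⟨hf, hfc⟩) (mem_invGen hi hinv)

theorem le_normalizer_invGen {Q : Subgroup G} (hQ : Odd (Nat.card Q)) {c : G} (hc : c * c = 1)
    (hcQ : c ∈ normalizer (Q : Set G)) : Q ≤ normalizer (invGen Q c : Set G) := by
  conv_lhs => rw [← sup_invGen hQ hc hcQ]
  exact sup_le (le_normalizer_invGen_of_commute (inf_le_left.trans le_normalizer) inf_le_right)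
    le_normalizer

theorem invGen_eq_bot_iff {Q : Subgroup G} (hQ : Odd (Nat.card Q)) {c : G} (hc : c * c = 1)
    (hcQ : c ∈ normalizer (Q : Set G)) : invGen Q c = ⊥ ↔ Q ≤ centralizer ({c} : Set G) := by
  constructor
  · intro h
    rw [← sup_invGen hQ hc hcQ, h, sup_bot_eq]
    exact inf_le_right
  · intro h
    rw [eq_bot_iff, invGen_le_iff]
    intro x hx hinv
    rw [mem_centralizer_singleton_iff_conj.1 (h hx)] at hinv
    exact Subgroup.mem_bot.2 (eq_one_of_eq_inv (odd_orderOf hQ hx) hinv)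

theorem le_centralizer_of_invGen_le {Q X : Subgroup G} (hQ : Odd (Nat.card Q)) {c : G}
    (hc : c * c = 1) (hcQ : c ∈ normalizer (Q : Set G)) (h : invGen Q c ≤ X)
    (hX : X ≤ centralizer ({c} : Set G)) : Q ≤ centralizer ({c} : Set G) := by
  conv_lhs => rw [← sup_invGen hQ hc hcQ]
  exact sup_le inf_le_right (h.trans hX)

theorem inverted_of_inf_eq_bot {Q : Subgroup G} (hQ : Odd (Nat.card Q)) {c : G} (hc : c * c = 1)
    (hcQ : c ∈ normalizer (Q : Set G)) (h : Q ⊓ centralizer ({c} : Set G) = ⊥) {x : G} (hx : x ∈ Q) :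
    c * x * c⁻¹ = x⁻¹ := by
  obtain ⟨f, i, hf, hfc, -, hinv, rfl⟩ := exists_fixed_mul_inverted hQ hc hcQ hx
  rwa [Subgroup.mem_bot.1 (h ▸ mem_inf.2 ⟨hf, hfc⟩ : f ∈ (⊥ : Subgroup G)), one_mul]

/-- `c` fixes `V` pointwise or inverts it. -/
def IsPM (c : G) (V : Subgroup G) : Prop :=
  V ≤ centralizer ({c} : Set G) ∨ ∀ v ∈ V, c * v * c⁻¹ = v⁻¹

theorem IsPM.mono {c : G} {V W : Subgroup G} (h : IsPM c V) (hW : W ≤ V) : IsPM c W :=
  h.imp hW.trans fun h v hv => h v (hW hv)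

/-- An element inverted by `c`, normalising `V` on which `c` acts as `±1`, centralises `V`. -/
theorem mem_centralizer_of_isPM {c : G} {V : Subgroup G} (hV : IsPM c V) {z : G}
    (hz : z ∈ normalizer (V : Set G)) (hodd : Odd (orderOf z)) (hinv : c * z * c⁻¹ = z⁻¹) :
    z ∈ centralizer (V : Set G) := by
  refine mem_of_sq_mem hodd (mem_centralizer_iff.2 fun v hv => ?_)
  have hzv : z * v * z⁻¹ ∈ V := (mem_normalizer_iff.1 hz v).1 hv
  have key : z⁻¹ * v * z = z * v * z⁻¹ := by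
    rcases hV with h | h
    · have h1 := mem_centralizer_singleton_iff_conj.1 (h hzv)
      have h2 := mem_centralizer_singleton_iff_conj.1 (h hv)
      calc z⁻¹ * v * z = (c * z * c⁻¹) * (c * v * c⁻¹) * (c * z * c⁻¹)⁻¹ := by rw [hinv, h2]; group
        _ = c * (z * v * z⁻¹) * c⁻¹ := by group
        _ = _ := h1
    · have h1 := h _ hzv
      have h2 := h v hv
      have : z⁻¹ * v⁻¹ * z = (z * v * z⁻¹)⁻¹ := by
        calc z⁻¹ * v⁻¹ * z = (c * z * c⁻¹) * (c * v * c⁻¹) * (c * z * c⁻¹)⁻¹ := by rw [hinv, h2]; group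
          _ = c * (z * v * z⁻¹) * c⁻¹ := by group
          _ = _ := h1
      calc z⁻¹ * v * z = (z⁻¹ * v⁻¹ * z)⁻¹ := by group
        _ = _ := by rw [this, inv_inv]
  calc v * z ^ 2 = z * (z⁻¹ * v * z) * z := by rw [sq]; group
    _ = z * (z * v * z⁻¹) * z := by rw [key]
    _ = z ^ 2 * v := by rw [sq]; group

end CfsgLib.Signalizer2
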