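import Mathlib
import Cfsg.Prelude.Def_Balance
import Cfsg.Agent.Lib.Signalizer2.Basic
import Cfsg.Agent.Lib.Components.Signalizer
import Cfsg.Agent.Lib.FT.OddOrderTheorem

/-!
# Signalizer functors for the prime 2 on an elementary abelian group of order 8: the setting
-/

set_option autoImplicit false
set_option linter.style.haveILetI false
set_option linter.unusedSectionVars false

open scoped Pointwise

namespace CfsgLib.Signalizer2

open Cfsg Subgroup CfsgLib.Base CfsgLib.Signalizer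

universe u

variable {G : Type u} [Group G] [Finite G] {A : Subgroup G} {θ : G → Subgroup G}

/-- A signalizer functor for the prime two on an elementary abelian group of order eight. -/
structure Setup (A : Subgroup G) (θ : G → Subgroup G) : Prop where
  elem : IsElementaryAbelian 2 A
  card : Nat.card A = 8
  sf : IsSignalizerFunctor 2 A θ

/-- Points: non-identity elements of `A`. -/
def Pt (A : Subgroup G) (a : G) : Prop := a ∈ A ∧ a ≠ 1

/-- The members of the functor. -/
abbrev Mem (A : Subgroup G) (θ : G → Subgroup G) (H : Subgroup G) : Prop :=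
  H ∈ signalizerFamily 2 A θ

/-- Completeness, in the form used here. -/
def Complete (A : Subgroup G) (θ : G → Subgroup G) : Prop :=
  ∃ X, Mem A θ X ∧ ∀ a, Pt A a → θ a ≤ X

/-- The fixed-point subgroup of `A`. -/
abbrev core0 (A : Subgroup G) (θ : G → Subgroup G) : Subgroup G := signalizerInf A θ

/-- The induction weight. -/
noncomputable def wt (A : Subgroup G) (θ : G → Subgroup G) : ℕ :=
  Nat.card (Σ a : {a : G // Pt A a}, θ a.1)

/-- A minimal counterexample. -/
structure Min (A : Subgroup G) (θ : G → Subgroup G) : Prop extends Setup A θ where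
  incomplete : ¬ Complete A θ
  group_ih : ∀ (H : Type u) [Group H] [Finite H], Nat.card H < Nat.card G →
    ∀ (A' : Subgroup H) (θ' : H → Subgroup H), Setup A' θ' → Complete A' θ'
  functor_ih : ∀ θ' : G → Subgroup G, Setup A θ' → wt A θ' < wt A θ → Complete A θ'

namespace Setup

variable (S : Setup A θ)
include S

theorem two_pow_le : 2 ^ 3 ≤ Nat.card A := by rw [S.card]; norm_num

theorem ne_bot : A ≠ ⊥ := fun e => by
  have := S.card
  rw [e, Subgroup.card_bot] at this; omega

theorem comm {a b : G} (ha : a ∈ A) (hb : b ∈ A) : a * b = b * a :=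
  haveI : Fact (Nat.Prime 2) := ⟨Nat.prime_two⟩
  elemAb_comm S.elem ha hb

theorem sq {a : G} (ha : a ∈ A) : a * a = 1 := by rw [← _root_.sq]; exact S.elem.2 a ha

theorem inv_eq {a : G} (ha : a ∈ A) : a⁻¹ = a := inv_eq_self_of_sq (S.sq ha)

theorem le_centralizer {a : G} (ha : a ∈ A) : A ≤ centralizer ({a} : Set G) := fun _ hb =>
  mem_centralizer_singleton_iff.2 (S.comm hb ha)

theorem odd {a : G} (ha : Pt A a) : Odd (Nat.card (θ a)) :=
  Nat.not_even_iff_odd.1 fun h => S.sf.2.1 a ha.1 ha.2 h.two_dvd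

theorem solv : IsSolvableSignalizerFunctor 2 A θ :=
  ⟨S.sf, fun _ ha ha1 => CfsgLib.FT.isSolvable_of_odd (S.odd ⟨ha, ha1⟩)⟩

theorem theta_le {a : G} (ha : Pt A a) : θ a ≤ centralizer ({a} : Set G) := S.sf.1 a ha.1 ha.2

theorem balance {a b : G} (ha : Pt A a) (hb : Pt A b) : θ a ⊓ centralizer ({b} : Set G) ≤ θ b :=
  S.sf.2.2.2 a ha.1 ha.2 b hb.1 hb.2

theorem theta_norm {a : G} (ha : Pt A a) : A ≤ normalizer (θ a : Set G) :=
  haveI : Fact (Nat.Prime 2) := ⟨Nat.prime_two⟩
  conj_invariant_iff.mp (S.sf.2.2.1 a ha.1 ha.2)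

theorem theta_mem {a : G} (ha : Pt A a) : Mem A θ (θ a) :=
  haveI : Fact (Nat.Prime 2) := ⟨Nat.prime_two⟩
  mem_family_of_le_value S.solv ha.1 ha.2 le_rfl (S.theta_norm ha)

theorem mem_of_le {U V : Subgroup G} (hV : Mem A θ V) (hU : U ≤ V)
    (hn : A ≤ normalizer (U : Set G)) : Mem A θ U :=
  haveI : Fact (Nat.Prime 2) := ⟨Nat.prime_two⟩
  mem_family_of_le S.solv hV hU hn

theorem mem_norm {H : Subgroup G} (hH : Mem A θ H) : A ≤ normalizer (H : Set G) :=
  haveI : Fact (Nat.Prime 2) := ⟨Nat.prime_two⟩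
  family_normalizer hH

theorem mem_odd {H : Subgroup G} (hH : Mem A θ H) : Odd (Nat.card H) :=
  Nat.not_even_iff_odd.1 fun h => hH.2.1 h.two_dvd

theorem mem_fix {H : Subgroup G} (hH : Mem A θ H) {a : G} (ha : Pt A a) :
    H ⊓ centralizer ({a} : Set G) ≤ θ a := hH.2.2.2 a ha.1 ha.2

theorem coprime {H : Subgroup G} (hH : Odd (Nat.card H)) : (Nat.card A).Coprime (Nat.card H) := by
  rw [S.card, show (8 : ℕ) = 2 ^ 3 from rfl]
  exact (Nat.coprime_two_left.2 hH).pow_left 3

theorem norm_inf {U V : Subgroup G} (hU : A ≤ normalizer (U : Set G))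
    (hV : A ≤ normalizer (V : Set G)) : A ≤ normalizer ((U ⊓ V : Subgroup G) : Set G) :=
  (le_inf hU hV).trans inf_normalizer_le_normalizer_inf

theorem norm_C {a : G} (ha : a ∈ A) :
    A ≤ normalizer ((centralizer ({a} : Set G) : Subgroup G) : Set G) :=
  (S.le_centralizer ha).trans le_normalizer

theorem mem_inf_C {H : Subgroup G} (hH : Mem A θ H) {a : G} (ha : a ∈ A) :
    Mem A θ (H ⊓ centralizer ({a} : Set G)) :=
  S.mem_of_le hH inf_le_left (S.norm_inf (S.mem_norm hH) (S.norm_C ha))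

theorem mul_mem_pt {a b : G} (ha : Pt A a) (hb : Pt A b) (hab : a ≠ b) : Pt A (a * b) := by
  refine ⟨mul_mem ha.1 hb.1, fun e => hab ?_⟩
  rw [eq_inv_of_mul_eq_one_left e, S.inv_eq hb.1]

theorem theta_inf_le {a b : G} (ha : Pt A a) (hb : Pt A b) (hab : a ≠ b) :
    θ a ⊓ θ b ≤ θ (a * b) := by
  intro x hx
  refine S.balance ha (S.mul_mem_pt ha hb hab) (mem_inf.2 ⟨hx.1, ?_⟩)
  have h1 := mem_centralizer_singleton_iff.1 (S.theta_le ha hx.1)
  have h2 := mem_centralizer_singleton_iff.1 (S.theta_le hb hx.2)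
  rw [mem_centralizer_singleton_iff, ← mul_assoc, h1, mul_assoc, h2, mul_assoc]

/-- Generation by the fixed points of the three involutions of a four-group in `A`. -/
theorem gen3 {H R : Subgroup G} (hH : Odd (Nat.card H)) (hAH : A ≤ normalizer (H : Set G))
    {x y : G} (hx : x ∈ A) (hy : y ∈ A)
    (h1 : H ⊓ centralizer ({x} : Set G) ≤ R) (h2 : H ⊓ centralizer ({y} : Set G) ≤ R)
    (h3 : H ⊓ centralizer ({x * y} : Set G) ≤ R) : H ≤ R := by
  haveI := S.elem.1
  refine CfsgLib.Coprime.le_of_centralizer_le Nat.prime_two hAH (S.coprime hH)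
    (Nat.coprime_two_right.2 hH) hx hy (by rw [S.elem.2 x hx]; exact one_mem _)
    (by rw [S.elem.2 y hy]; exact one_mem _) h2 fun i hi => ?_
  interval_cases i
  · simpa using h1
  · simpa using h3

theorem mem_gen3 {H R : Subgroup G} (hH : Mem A θ H) {x y : G} (hx : Pt A x) (hy : Pt A y)
    (hxy : x ≠ y) (h1 : θ x ≤ R) (h2 : θ y ≤ R) (h3 : θ (x * y) ≤ R) : H ≤ R :=
  S.gen3 (S.mem_odd hH) (S.mem_norm hH) hx.1 hy.1 ((S.mem_fix hH hx).trans h1)
    ((S.mem_fix hH hy).trans h2) ((S.mem_fix hH (S.mul_mem_pt hx hy hxy)).trans h3)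

end Setup

/-- Three independent points. -/
def Indep (A : Subgroup G) (a b c : G) : Prop :=
  Pt A a ∧ Pt A b ∧ Pt A c ∧ a ≠ b ∧ a ≠ c ∧ b ≠ c ∧ c ≠ a * b

namespace Setup

variable (S : Setup A θ)
include S

theorem exists_not_mem_pair {a b : G} (ha : Pt A a) (hb : Pt A b) :
    ∃ c, Pt A c ∧ c ≠ a ∧ c ≠ b ∧ c ≠ a * b := by
  classical
  by_contra hne
  push Not at hne
  let F : Finset G := {1, a, b, a * b}
  have hsub : (A : Set G) ⊆ F := fun c hc => by
    by_cases h1 : c = 1
    · simp [F, h1]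
    by_cases h2 : c = a
    · simp [F, h2]
    by_cases h3 : c = b
    · simp [F, h3]
    simp [F, hne c ⟨hc, h1⟩ h2 h3]
  have := Set.ncard_le_ncard hsub (Finset.finite_toSet F)
  rw [Set.ncard_coe_finset, ← Nat.card_coe_set_eq] at this
  have h8 := S.card
  have h4 : F.card ≤ 4 := Finset.card_le_four
  change Nat.card A ≤ _ at this
  omega

theorem indep_of {a b c : G} (ha : Pt A a) (hb : Pt A b) (hc : Pt A c) (hab : a ≠ b) (hca : c ≠ a)
    (hcb : c ≠ b) (hcab : c ≠ a * b) : Indep A a b c :=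
  ⟨ha, hb, hc, hab, hca.symm, hcb.symm, hcab⟩

theorem exists_indep : ∃ a b c, Indep A a b c := by
  obtain ⟨a, ha, ha1⟩ := (bot_or_exists_ne_one A).resolve_left S.ne_bot
  obtain ⟨b, hb, hba, -, -⟩ := S.exists_not_mem_pair ⟨ha, ha1⟩ ⟨ha, ha1⟩
  obtain ⟨c, hc, h1, h2, h3⟩ := S.exists_not_mem_pair ⟨ha, ha1⟩ hb
  exact ⟨a, b, c, S.indep_of ⟨ha, ha1⟩ hb hc hba.symm h1 h2 h3⟩

theorem third_ne {a b c : G} (h : Indep A a b c) : a * b ≠ c := h.2.2.2.2.2.2.symm

/-- The elements of `A`. -/
theorem cases_of_indep {a b c : G} (h : Indep A a b c) {v : G} (hv : v ∈ A) :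
    v = 1 ∨ v = a ∨ v = b ∨ v = a * b ∨ v = c ∨ v = a * c ∨ v = b * c ∨ v = a * b * c := by
  classical
  obtain ⟨ha, hb, hc, hab, hac, hbc, habc⟩ := h
  have hz : a * b ≠ 1 := (S.mul_mem_pt ha hb hab).2
  let F : Finset G := {1, a, b, a * b}
  have hF : F.card = 4 := by
    have h1 : (1 : G) ∉ ({a, b, a * b} : Finset G) := by
      simp [Ne.symm ha.2, Ne.symm hb.2, Ne.symm hz]
    have h2 : a ∉ ({b, a * b} : Finset G) := by simp [hab, hb.2]
    have h3 : b ∉ ({a * b} : Finset G) := by simp [ha.2]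
    simp only [F]
    rw [Finset.card_insert_of_notMem h1, Finset.card_insert_of_notMem h2,
      Finset.card_insert_of_notMem h3, Finset.card_singleton]
  have hFA : ∀ x ∈ F, x ∈ A := by
    intro x hx
    simp only [F, Finset.mem_insert, Finset.mem_singleton] at hx
    rcases hx with rfl | rfl | rfl | rfl
    exacts [one_mem _, ha.1, hb.1, mul_mem ha.1 hb.1]
  let F' : Finset G := F ∪ F.image (· * c)
  have hdisj : Disjoint F (F.image (· * c)) := by
    rw [Finset.disjoint_left]
    intro x hx hx'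
    obtain ⟨y, hy, hyx⟩ := Finset.mem_image.1 hx'
    have hcF : c = y⁻¹ * x := by rw [← hyx]; group
    rw [S.inv_eq (hFA y hy)] at hcF
    have haa := S.sq ha.1
    have hbb := S.sq hb.1
    have e1 : b * a = a * b := S.comm hb.1 ha.1
    have e2 : a * (a * b) = b := by rw [← mul_assoc, haa, one_mul]
    have e3 : a * b * b = a := by rw [mul_assoc, hbb, mul_one]
    have e4 : b * (a * b) = a := by rw [← mul_assoc, e1, e3]
    have e5 : a * b * a = b := by rw [mul_assoc, e1, e2]
    have e6 : a * b * (a * b) = 1 := S.sq (mul_mem ha.1 hb.1)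
    have hmem : y * x ∈ F := by
      simp only [F, Finset.mem_insert, Finset.mem_singleton] at hx hy ⊢
      rcases hx with hx | hx | hx | hx <;> rcases hy with hy | hy | hy | hy <;> rw [hx, hy] <;>
        simp [haa, hbb, e1, e2, e3, e4, e5, e6]
    rw [← hcF] at hmem
    simp only [F, Finset.mem_insert, Finset.mem_singleton] at hmem
    rcases hmem with e | e | e | e
    exacts [hc.2 e, hac e.symm, hbc e.symm, habc e]
  have hcard : F'.card = 8 := by
    rw [Finset.card_union_of_disjoint hdisj, Finset.card_image_of_injective _ (mul_left_injective c),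
      hF]
  have hsub : (F' : Set G) ⊆ (A : Set G) := by
    intro x hx
    simp only [F', Finset.coe_union, Set.mem_union, Finset.mem_coe, Finset.coe_image, Set.mem_image] at hx
    rcases hx with hx | ⟨y, hy, rfl⟩
    exacts [hFA x hx, mul_mem (hFA y hy) hc.1]
  have heq := Set.eq_of_subset_of_ncard_le hsub (by
    rw [Set.ncard_coe_finset, hcard, ← Nat.card_coe_set_eq]; exact S.card.le)
  have : v ∈ (F' : Set G) := by rw [heq]; exact hv
  simp only [F', F, Finset.coe_union, Set.mem_union, Finset.mem_coe, Finset.mem_image,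
    Finset.mem_insert, Finset.mem_singleton] at this
  rcases this with (h | h | h | h) | ⟨y, rfl | rfl | rfl | rfl, hy⟩
  · exact Or.inl h
  · exact Or.inr (Or.inl h)
  · exact Or.inr (Or.inr (Or.inl h))
  · exact Or.inr (Or.inr (Or.inr (Or.inl h)))
  · exact Or.inr (Or.inr (Or.inr (Or.inr (Or.inl (by rw [← hy, one_mul])))))
  · exact Or.inr (Or.inr (Or.inr (Or.inr (Or.inr (Or.inl hy.symm)))))
  · exact Or.inr (Or.inr (Or.inr (Or.inr (Or.inr (Or.inr (Or.inl hy.symm))))))
  · exact Or.inr (Or.inr (Or.inr (Or.inr (Or.inr (Or.inr (Or.inr hy.symm))))))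

theorem mem_centralizer_A {a b c : G} (h : Indep A a b c) {x : G}
    (h1 : x ∈ centralizer ({a} : Set G)) (h2 : x ∈ centralizer ({b} : Set G))
    (h3 : x ∈ centralizer ({c} : Set G)) : x ∈ centralizer (A : Set G) := by
  refine mem_centralizer_iff.2 fun v hv => ?_
  have e : ∀ g : G, x ∈ centralizer ({g} : Set G) → Commute x g := fun g hg =>
    mem_centralizer_singleton_iff.1 hg
  have ea := e a h1
  have eb := e b h2
  have ec := e c h3
  refine Eq.symm (?_ : Commute x v)
  rcases S.cases_of_indep h hv with rfl | rfl | rfl | rfl | rfl | rfl | rfl | rfl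
  exacts [Commute.one_right x, ea, eb, ea.mul_right eb, ec, ea.mul_right ec, eb.mul_right ec,
    (ea.mul_right eb).mul_right ec]

theorem mem_core0_of {H : Subgroup G} (hH : Mem A θ H) {x : G} (hx : x ∈ H)
    (hxA : x ∈ centralizer (A : Set G)) : x ∈ core0 A θ :=
  haveI : Fact (Nat.Prime 2) := ⟨Nat.prime_two⟩
  inf_centralizer_le_signalizerInf hH le_rfl (mem_inf.2 ⟨hx, hxA⟩)

theorem core0_le {a : G} (ha : Pt A a) : core0 A θ ≤ θ a := signalizerInf_le ha.1 ha.2

theorem core0_le_centralizer : core0 A θ ≤ centralizer (A : Set G) :=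
  haveI : Fact (Nat.Prime 2) := ⟨Nat.prime_two⟩
  signalizerInf_le_centralizer S.solv le_rfl

theorem core0_le_C {a : G} (ha : a ∈ A) : core0 A θ ≤ centralizer ({a} : Set G) :=
  S.core0_le_centralizer.trans (centralizer_le (Set.singleton_subset_iff.2 ha))

theorem core0_mem : Mem A θ (core0 A θ) :=
  haveI : Fact (Nat.Prime 2) := ⟨Nat.prime_two⟩
  signalizerInf_mem_family S.solv le_rfl S.ne_bot

theorem sup_mem {X Y : Subgroup G} (hX : Mem A θ X) (hY : Mem A θ Y)
    (hn : Y ≤ normalizer (X : Set G)) : Mem A θ (X ⊔ Y) :=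
  haveI : Fact (Nat.Prime 2) := ⟨Nat.prime_two⟩
  sup_mem_family S.elem hX hY hn

theorem exists_max {H : Subgroup G} (hH : Mem A θ H) :
    ∃ J, Mem A θ J ∧ H ≤ J ∧ ∀ U, Mem A θ U → J ≤ U → U = J := by
  obtain ⟨J, hle, hJ⟩ := (Set.toFinite (signalizerFamily 2 A θ)).exists_le_maximal hH
  exact ⟨J, hJ.prop, hle, fun U hU h => le_antisymm (hJ.le_of_ge hU h) h⟩

theorem complete_of_bot (h : ∀ a, Pt A a → θ a = ⊥) : Complete A θ :=
  ⟨core0 A θ, S.core0_mem, fun a ha => by rw [h a ha]; exact bot_le⟩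

end Setup

end CfsgLib.Signalizer2
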