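import Mathlib
import Cfsg.Agent.Lib.Signalizer2.Setting
import Cfsg.Agent.Lib.Components.Bender

/-!
# A four-group acting on a group of odd order
-/

set_option autoImplicit false
set_option linter.style.haveILetI false

open scoped Pointwise commutatorElement

namespace CfsgLib.Signalizer2

open Subgroup CfsgLib.Base

universe u

variable {G : Type u} [Group G] [Finite G]

/-- The elements of `Q` inverted by `x y` lie in `⟨C_Q(x), C_Q(y)⟩`. -/
theorem invGen_le_of_pair {A Q R : Subgroup G} [IsMulCommutative A]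
    (hQ : Odd (Nat.card Q)) (hAQ : A ≤ normalizer (Q : Set G))
    (hcop : (Nat.card A).Coprime (Nat.card Q))
    {x y : G} (hx : x ∈ A) (hy : y ∈ A) (hx2 : x * x = 1) (hy2 : y * y = 1)
    (h1 : Q ⊓ centralizer ({x} : Set G) ≤ R) (h2 : Q ⊓ centralizer ({y} : Set G) ≤ R) :
    invGen Q (x * y) ≤ R := by
  haveI hQsol : Group.IsSolvable Q := CfsgLib.FT.isSolvable_of_odd hQ
  obtain ⟨m, hm⟩ := (Group.isSolvable_def Q).1 hQsol
  set c := x * y with hc
  set X := (Q ⊓ centralizer ({x} : Set G)) ⊔ (Q ⊓ centralizer ({y} : Set G)) with hXdef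
  have hXQ : X ≤ Q := sup_le inf_le_left inf_le_left
  let D : ℕ → Subgroup G := fun k => (derivedSeries Q k).map Q.subtype
  have hDQ : ∀ k, D k ≤ Q := fun k => map_subtype_le _
  have hDsucc : ∀ k, D (k + 1) = ⁅D k, D k⁆ := fun k => by
    show (derivedSeries Q (k + 1)).map Q.subtype = _
    rw [derivedSeries_succ, map_commutator]
  have hDn : ∀ k, normalizer (Q : Set G) ≤ normalizer (D k : Set G) := fun k => by
    haveI : (derivedSeries Q k).Characteristic := derivedSeries_characteristic Q k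
    exact normalizer_le_normalizer_map_subtype Q _
  have hAC : ∀ b ∈ A, A ≤ centralizer ({b} : Set G) := fun b hb a ha =>
    mem_centralizer_singleton_iff.2 (congrArg Subtype.val (mul_comm' (⟨a, ha⟩ : A) ⟨b, hb⟩))
  have hAX : A ≤ normalizer (X : Set G) := by
    refine CfsgLib.Coprime.le_normalizer_sup_sup ?_ ?_ <;>
      refine (le_inf hAQ ?_).trans inf_normalizer_le_normalizer_inf
    · exact (hAC x hx).trans le_normalizer
    · exact (hAC y hy).trans le_normalizer
  suffices key : ∀ k, ∀ w ∈ Q, c * w * c⁻¹ = w⁻¹ → w ∈ X ⊔ D k by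
    refine invGen_le_iff.2 fun w hw hinv => ?_
    have := key m w hw hinv
    simp only [D, hm, Subgroup.map_bot, sup_bot_eq] at this
    exact sup_le h1 h2 this
  intro k
  induction k with
  | zero =>
    intro w hw _
    refine mem_sup_right ?_
    simp only [D, derivedSeries_zero, ← MonoidHom.range_eq_map, range_subtype]
    exact hw
  | succ k ih =>
    intro w hw hinv
    set N := D k with hN
    set X' := X ⊔ D (k + 1) with hX'
    have hX'Q : X' ≤ Q := sup_le hXQ (hDQ _)
    have hN1 : D (k + 1) ≤ N := by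
      rw [hDsucc]; exact commutator_le_self _
    have hX'N : X' ≤ normalizer (N : Set G) := hX'Q.trans (le_normalizer.trans (hDn k))
    have hwXN : w ∈ X' ⊔ N := by
      have := ih w hw hinv
      exact (sup_le (le_sup_left.trans le_sup_left) le_sup_right : X ⊔ N ≤ X' ⊔ N) this
    obtain ⟨ξ₀, hξ₀, n, hn, hwe⟩ := (CfsgLib.Coprime.mem_sup_iff_of_le_normalizer hX'N).1 hwXN
    set Dg := X' ⊓ N with hDg
    have hND : N ≤ normalizer (Dg : Set G) := by
      refine CfsgLib.Components.le_normalizer_of_conj_mem fun a ha d hd => ?_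
      have h : ⁅a, d⁆ ∈ Dg := mem_inf.2 ⟨mem_sup_right (by
        rw [hDsucc]; exact commutator_mem_commutator ha hd.2), hN1 (by
        rw [hDsucc]; exact commutator_mem_commutator ha hd.2)⟩
      have e : a * d * a⁻¹ = ⁅a, d⁆ * d := by rw [commutatorElement_def]; group
      rw [e]; exact mul_mem h hd
    have hAN : A ≤ normalizer (N : Set G) := hAQ.trans (hDn k)
    have hNodd : Odd (Nat.card N) := card_odd_of_le (hDQ k) hQ
    have hgen : N ≤ (N ⊓ centralizer ({c} : Set G)) ⊔ Dg := by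
      refine CfsgLib.Coprime.le_of_centralizer_le Nat.prime_two hAN
        (hcop.coprime_dvd_right (card_dvd_of_le (hDQ k))) (Nat.coprime_two_right.2 hNodd) hx hy
        (by rw [sq, hx2]; exact one_mem _) (by rw [sq, hy2]; exact one_mem _) ?_ fun i hi => ?_
      · exact fun g hg => mem_sup_right (mem_inf.2
          ⟨mem_sup_left (mem_sup_right (mem_inf.2 ⟨hDQ k hg.1, hg.2⟩)), hg.1⟩)
      · interval_cases i
        · exact fun g hg => mem_sup_right (mem_inf.2
            ⟨mem_sup_left (mem_sup_left (mem_inf.2 ⟨hDQ k hg.1, by simpa using hg.2⟩)), hg.1⟩)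
        · exact fun g hg => mem_sup_left (by simpa using hg)
    obtain ⟨f, hf, d, hd, hne⟩ :=
      (CfsgLib.Coprime.mem_sup_iff_of_le_normalizer (inf_le_left.trans hND)).1 (hgen hn)
    set ξ := ξ₀ * (f * d * f⁻¹) with hξ
    have hξX : ξ ∈ X' := mul_mem hξ₀ ((mem_normalizer_iff.1 (hND hf.1) d).1 hd).1
    have hw' : w = ξ * f := by rw [← hwe, ← hne, hξ]; group
    have hcA : c ∈ A := mul_mem hx hy
    have hfc : c * f * c⁻¹ = f := mem_centralizer_singleton_iff_conj.1 hf.2
    have hcX : c * ξ * c⁻¹ ∈ X' := by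
      have : c ∈ normalizer (X' : Set G) :=
        CfsgLib.Coprime.le_normalizer_sup_sup hAX (hAQ.trans (hDn (k + 1))) hcA
      exact (mem_normalizer_iff.1 this ξ).1 hξX
    have hδ : ξ * (c * ξ * c⁻¹) = ξ * f⁻¹ * ξ⁻¹ * f⁻¹ := by
      have h3 : (c * ξ * c⁻¹) * f = f⁻¹ * ξ⁻¹ := by
        calc (c * ξ * c⁻¹) * f = (c * ξ * c⁻¹) * (c * f * c⁻¹) := by rw [hfc]
          _ = c * w * c⁻¹ := by rw [hw']; group
          _ = _ := by rw [hinv, hw']; group
      calc ξ * (c * ξ * c⁻¹) = ξ * ((c * ξ * c⁻¹) * f) * f⁻¹ := by group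
        _ = _ := by rw [h3]; group
    have hξN : ξ ∈ normalizer (N : Set G) := hX'N hξX
    have hδD : f * ξ * f * ξ⁻¹ ∈ Dg := by
      have : ξ * (c * ξ * c⁻¹) ∈ Dg := by
        refine mem_inf.2 ⟨mul_mem hξX hcX, ?_⟩
        rw [hδ]
        exact mul_mem ((mem_normalizer_iff.1 hξN _).1 (inv_mem hf.1)) (inv_mem hf.1)
      rw [hδ] at this
      have := inv_mem this
      simpa [mul_assoc] using this
    have hξD : ξ ∈ normalizer (Dg : Set G) :=
      inf_normalizer_le_normalizer_inf (mem_inf.2 ⟨le_normalizer hξX, hξN⟩)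
    have hg : ξ * f * ξ⁻¹ * f ∈ Dg := by
      have := (mem_normalizer_iff.1 (hND (inv_mem hf.1)) _).1 hδD
      simpa [mul_assoc] using this
    set h := ξ ^ 2 with hh
    have hh2 : h * f * h⁻¹ * f⁻¹ ∈ Dg := by
      have e : h * f * h⁻¹ * f⁻¹ = (ξ * (ξ * f * ξ⁻¹ * f) * ξ⁻¹) * (f * ξ * f * ξ⁻¹)⁻¹ := by
        rw [hh, sq]; group
      rw [e]
      exact mul_mem ((mem_normalizer_iff.1 hξD _).1 hg) (inv_mem hδD)
    have hhD : h ∈ normalizer (Dg : Set G) := pow_mem hξD 2
    have hpow : ∀ j : ℕ, h ^ j * f * (h ^ j)⁻¹ * f⁻¹ ∈ Dg := by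
      intro j
      induction j with
      | zero => simp
      | succ j ihj =>
        have e : h ^ (j + 1) * f * (h ^ (j + 1))⁻¹ * f⁻¹ =
            (h * (h ^ j * f * (h ^ j)⁻¹ * f⁻¹) * h⁻¹) * (h * f * h⁻¹ * f⁻¹) := by
          rw [pow_succ']; group
        rw [e]
        exact mul_mem ((mem_normalizer_iff.1 hhD _).1 ihj) hh2
    obtain ⟨j, hj⟩ := odd_orderOf hQ (hX'Q hξX)
    have h1' : ξ * f * ξ⁻¹ * f⁻¹ ∈ Dg := by
      have := hpow (j + 1)
      rwa [show h ^ (j + 1) = ξ by
        rw [hh, ← pow_mul, show 2 * (j + 1) = orderOf ξ + 1 by omega, pow_succ, pow_orderOf_eq_one,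
          one_mul]] at this
    have hff : f ^ 2 ∈ Dg := by
      have := mul_mem (inv_mem h1') hg
      rw [sq]
      simpa [mul_assoc] using this
    have hfD : f ∈ Dg := mem_of_sq_mem (odd_orderOf hQ (hDQ k hf.1)) hff
    rw [hw']
    exact mul_mem hξX hfD.1

namespace Setup

open Cfsg

variable {A : Subgroup G} {θ : G → Subgroup G}

theorem invGen_le_pair (S : Setup A θ) {Q R : Subgroup G} (hQ : Odd (Nat.card Q))
    (hAQ : A ≤ normalizer (Q : Set G)) {x y : G} (hx : x ∈ A) (hy : y ∈ A)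
    (h1 : Q ⊓ centralizer ({x} : Set G) ≤ R) (h2 : Q ⊓ centralizer ({y} : Set G) ≤ R) :
    invGen Q (x * y) ≤ R :=
  haveI := S.elem.1
  invGen_le_of_pair hQ hAQ (S.coprime hQ) hx hy (S.sq hx) (S.sq hy) h1 h2

end Setup

end CfsgLib.Signalizer2
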