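import Mathlib
import Cfsg.Agent.Lib.Signalizer2.LemmaQ

/-!
# Members of a minimal counterexample: uniqueness of overgroups, transitivity, Hall subfunctors
-/

set_option autoImplicit false
set_option linter.style.haveILetI false
set_option linter.unusedSectionVars false

open scoped Pointwise

namespace CfsgLib.Signalizer2

open Cfsg Subgroup CfsgLib.Base CfsgLib.Signalizer

universe u

variable {G : Type u} [Group G] [Finite G] {A : Subgroup G} {θ : G → Subgroup G}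

/-- A maximal member containing the fixed-point subgroup. -/
structure AKMax (A : Subgroup G) (θ : G → Subgroup G) (J : Subgroup G) : Prop where
  mem : Mem A θ J
  max : ∀ U, Mem A θ U → J ≤ U → U = J
  K_le : core0 A θ ≤ J

/-- `J` contains every member normalising `X`. -/
def Owns (A : Subgroup G) (θ : G → Subgroup G) (X J : Subgroup G) : Prop :=
  ∀ U, Mem A θ U → U ≤ normalizer (X : Set G) → U ≤ J

/-- `InPi A θ x`: the prime `x` divides some value of the functor. -/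
def InPi (A : Subgroup G) (θ : G → Subgroup G) (x : ℕ) : Prop :=
  x.Prime ∧ ∃ a, Pt A a ∧ x ∣ Nat.card (θ a)

/-- A maximal `q`-member. -/
def MaxP (A : Subgroup G) (θ : G → Subgroup G) (q : ℕ) (Q : Subgroup G) : Prop :=
  Mem A θ Q ∧ IsPGroup q Q ∧ ∀ R, Mem A θ R → IsPGroup q R → Q ≤ R → R = Q

/-- The intersection of the maximal `q`-members. -/
def Pq (A : Subgroup G) (θ : G → Subgroup G) (q : ℕ) : Subgroup G :=
  ⨅ Q : {Q : Subgroup G // MaxP A θ q Q}, (Q : Subgroup G)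

theorem le_normalizer_sSup {R : Subgroup G} {S : Set (Subgroup G)}
    (h : ∀ U ∈ S, R ≤ normalizer (U : Set G)) : R ≤ normalizer ((sSup S : Subgroup G) : Set G) := by
  refine CfsgLib.Components.le_normalizer_of_conj_mem fun r hr y hy => ?_
  have hle : (sSup S).map (MulAut.conj r).toMonoidHom ≤ sSup S := by
    rw [map_le_iff_le_comap]
    refine sSup_le fun U hU z hz => ?_
    exact (le_sSup hU : U ≤ sSup S) ((mem_normalizer_iff.1 (h U hU hr) z).1 hz)
  exact hle ⟨y, hy, rfl⟩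

theorem le_normalizer_of_le_centralizer {R U : Subgroup G} (h : R ≤ centralizer (U : Set G)) :
    R ≤ normalizer (U : Set G) := h.trans (centralizer_le_normalizer _)

namespace Setup

variable (S : Setup A θ)
include S

theorem exists_akmax {H : Subgroup G} (hH : Mem A θ H) (hK : core0 A θ ≤ H) :
    ∃ J, AKMax A θ J ∧ H ≤ J := by
  obtain ⟨J, hJ, hle, hmax⟩ := S.exists_max hH
  exact ⟨J, ⟨hJ, hmax, hK.trans hle⟩, hle⟩

theorem exists_akmax_theta {a : G} (ha : Pt A a) : ∃ J, AKMax A θ J ∧ θ a ≤ J :=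
  S.exists_akmax (S.theta_mem ha) (S.core0_le ha)

theorem exists_akmax_sup {X : Subgroup G} (hX : Mem A θ X) (hK : core0 A θ ≤ normalizer (X : Set G)) :
    ∃ J, AKMax A θ J ∧ X ≤ J := by
  obtain ⟨J, hJ, hle⟩ := S.exists_akmax (S.sup_mem hX S.core0_mem hK) le_sup_right
  exact ⟨J, hJ, le_sup_left.trans hle⟩

theorem inPi_of_dvd {H : Subgroup G} (hH : Mem A θ H) {q : ℕ} (hq : q.Prime)
    (hd : q ∣ Nat.card H) : InPi A θ q := by
  haveI := Fact.mk hq
  haveI : Fact (Nat.Prime 2) := ⟨Nat.prime_two⟩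
  obtain ⟨P, hP⟩ := CfsgLib.Coprime.exists_invariant_sylow (p := q) (S.mem_norm hH)
    (S.coprime (S.mem_odd hH)) (Or.inr hH.1)
  set V := (P : Subgroup H).map H.subtype with hV
  have hVm : Mem A θ V := S.mem_of_le hH (map_subtype_le _) hP
  refine ⟨hq, ?_⟩
  by_contra hne
  push Not at hne
  have hVp : IsPGroup q V := P.isPGroup'.map _
  have hbot : V ≤ ⊥ := by
    obtain ⟨a, b, c, ha, hb, -, hab, -⟩ := S.exists_indep
    have key : ∀ v, Pt A v → V ⊓ centralizer ({v} : Set G) ≤ ⊥ := by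
      intro v hv x hx
      have hxθ := S.mem_fix hVm hv hx
      rw [Subgroup.mem_bot]
      obtain ⟨k, hk⟩ := hVp ⟨x, hx.1⟩
      have hk' : x ^ q ^ k = 1 := congrArg Subtype.val hk
      by_contra hx1
      obtain ⟨j, -, hj⟩ := (Nat.dvd_prime_pow hq).1 (orderOf_dvd_of_pow_eq_one hk')
      rcases j with _ | j
      · exact hx1 (orderOf_eq_one_iff.1 (by simpa using hj))
      · exact hne v hv ((dvd_pow_self q (Nat.succ_ne_zero j)).trans
          (hj ▸ (orderOf_coe (⟨x, hxθ⟩ : θ v)).symm ▸ orderOf_dvd_natCard _))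
    exact S.gen3 (S.mem_odd hVm) hP ha.1 hb.1 (key a ha) (key b hb) (key _ (S.mul_mem_pt ha hb hab))
  have h1 : Nat.card (P : Subgroup H) = 1 := by
    rw [← CfsgLib.Base.card_map_subtype (P : Subgroup H), ← hV, le_bot_iff.1 hbot, Subgroup.card_bot]
  have h2 := P.card_eq_multiplicity
  rw [h1] at h2
  have h3 : 0 < (Nat.card H).factorization q := hq.factorization_pos_of_dvd Nat.card_pos.ne' hd
  have := Nat.one_lt_pow h3.ne' hq.one_lt
  omega

/-! ### Transitivity -/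

variable {q : ℕ}

theorem exists_maxP {U : Subgroup G} (hU : Mem A θ U) (hq : IsPGroup q U) :
    ∃ Q, MaxP A θ q Q ∧ U ≤ Q := by
  haveI : Fact (Nat.Prime 2) := ⟨Nat.prime_two⟩
  obtain ⟨Q, h1, h2, h3, h4⟩ := exists_maximal_ge hU hq
  exact ⟨Q, ⟨h1, h2, h4⟩, h3⟩

theorem maxP_conj {Q : Subgroup G} (hQ : MaxP A θ q Q) [Fact q.Prime] :
    ∀ Q' : Subgroup G, MaxP A θ q Q' →
      ∃ c ∈ core0 A θ, Q.map (MulAut.conj c).toMonoidHom = Q' := fun Q' hQ' => by
  haveI : Fact (Nat.Prime 2) := ⟨Nat.prime_two⟩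
  exact transitivity S.elem S.two_pow_le S.solv hQ.1 hQ.2.1 hQ.2.2 hQ'.1 hQ'.2.1 hQ'.2.2

theorem maxP_map_conj {Q : Subgroup G} (hQ : MaxP A θ q Q) {c : G} (hc : c ∈ core0 A θ) :
    MaxP A θ q (Q.map (MulAut.conj c).toMonoidHom) := by
  haveI : Fact (Nat.Prime 2) := ⟨Nat.prime_two⟩
  refine ⟨map_conj_mem_family S.solv hQ.1 hc, hQ.2.1.map _, fun R hR hRq hle => ?_⟩
  refine (eq_of_le_of_card_ge hle ?_).symm
  have h5 := hQ.2.2 _ (map_conj_mem_family S.solv hR (inv_mem hc)) (hRq.map _) (fun x hx => by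
    rw [CfsgLib.Base.mem_map_conj, inv_inv]
    exact hle ⟨x, hx, rfl⟩)
  rw [card_map_conj, ← h5, card_map_conj]

theorem le_Pq [Fact q.Prime] {U : Subgroup G} (hU : Mem A θ U) (hq : IsPGroup q U)
    (hK : core0 A θ ≤ normalizer (U : Set G)) : U ≤ Pq A θ q := by
  refine le_iInf fun Q' => ?_
  obtain ⟨Q, hQ, hle⟩ := S.exists_maxP hU hq
  obtain ⟨c, hc, hcQ⟩ := S.maxP_conj hQ _ Q'.2
  rw [← hcQ, ← map_conj_eq_self_iff.2 (hK hc)]
  exact map_mono hle

theorem Pq_le {Q : Subgroup G} (hQ : MaxP A θ q Q) : Pq A θ q ≤ Q :=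
  iInf_le (fun Q : {Q : Subgroup G // MaxP A θ q Q} => (Q : Subgroup G)) ⟨Q, hQ⟩

theorem exists_maxP' : ∃ Q, MaxP A θ q Q := by
  obtain ⟨Q, hQ, -⟩ := S.exists_maxP (q := q) (U := ⊥)
    (S.mem_of_le S.core0_mem bot_le (fun a _ => by rw [mem_normalizer_iff]; simp)) IsPGroup.of_bot
  exact ⟨Q, hQ⟩

theorem Pq_isPGroup : IsPGroup q (Pq A θ q) := by
  obtain ⟨Q, hQ⟩ := S.exists_maxP' (q := q)
  exact hQ.2.1.to_le (S.Pq_le hQ)

theorem Pq_norm_A : A ≤ normalizer (Pq A θ q : Set G) := by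
  refine CfsgLib.Components.le_normalizer_of_conj_mem fun a ha y hy => ?_
  simp only [Pq, mem_iInf] at hy ⊢
  exact fun Q => (mem_normalizer_iff.1 (S.mem_norm Q.2.1 ha) y).1 (hy Q)

theorem Pq_norm_K : core0 A θ ≤ normalizer (Pq A θ q : Set G) := by
  refine CfsgLib.Components.le_normalizer_of_conj_mem fun c hc y hy => ?_
  simp only [Pq, mem_iInf] at hy ⊢
  intro Q
  have := hy ⟨_, S.maxP_map_conj Q.2 (inv_mem hc)⟩
  rwa [CfsgLib.Base.mem_map_conj, inv_inv] at this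

theorem Pq_mem : Mem A θ (Pq A θ q) := by
  obtain ⟨Q, hQ⟩ := S.exists_maxP' (q := q)
  exact S.mem_of_le hQ.1 (S.Pq_le hQ) S.Pq_norm_A

/-! ### The Hall subfunctor -/

/-- The largest `AK`-invariant `x'`-subgroup of `θ a`. -/
def primeFree (A : Subgroup G) (θ : G → Subgroup G) (x : ℕ) (a : G) : Subgroup G :=
  sSup {U | U ≤ θ a ∧ A ≤ normalizer (U : Set G) ∧ core0 A θ ≤ normalizer (U : Set G) ∧
    ¬ x ∣ Nat.card U}

theorem primeFree_spec {x : ℕ} (hx : x.Prime) {a : G} (ha : Pt A a) :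
    ¬ x ∣ Nat.card (primeFree A θ x a) := by
  haveI : Fact (Nat.Prime 2) := ⟨Nat.prime_two⟩
  set π : Set ℕ := {p | p ≠ x}
  have hmem := S.theta_mem ha
  haveI : Group.IsSolvable (θ a) := hmem.1
  have hD : CfsgLib.Coprime.HallD π ↥(θ a) := CfsgLib.Coprime.hallD_of_solvable π
  obtain ⟨H₁, hH₁, hA₁⟩ := CfsgLib.Coprime.exists_invariant_piHall (S.theta_norm ha)
    (S.coprime (S.odd ha)) (Or.inr hmem.1) hD
  have hle : primeFree A θ x a ≤ H₁ := by
    refine sSup_le fun U ⟨hUθ, hUA, hUK, hUx⟩ => ?_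
    obtain ⟨H₀, hH₀, hA₀, hU₀⟩ := CfsgLib.Coprime.exists_invariant_piHall_ge (π := π)
      (S.theta_norm ha) (S.coprime (S.odd ha)) hmem.1 hUθ hUA
      (fun p _ hd hpx => hUx (hpx ▸ hd))
    obtain ⟨c, hc, hcH⟩ := CfsgLib.Coprime.invariant_piHall_conj (S.theta_norm ha)
      (S.coprime (S.odd ha)) (Or.inr hmem.1) hD hH₀ hA₀ hH₁ hA₁
    rw [← hcH, ← CfsgLib.Coprime.conj_smul_eq_self_of_mem_normalizer
      (hUK (S.mem_core0_of hmem hc.1 hc.2))]
    exact Subgroup.pointwise_smul_le_pointwise_smul_iff.2 hU₀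
  intro hd
  exact hH₁.2.1 x hx (hd.trans (card_dvd_of_le hle)) rfl

theorem primeFree_le {x : ℕ} {a : G} : primeFree A θ x a ≤ θ a := sSup_le fun _ hU => hU.1

theorem primeFree_norm_A {x : ℕ} {a : G} : A ≤ normalizer (primeFree A θ x a : Set G) :=
  le_normalizer_sSup fun _ hU => hU.2.1

theorem primeFree_norm_K {x : ℕ} {a : G} :
    core0 A θ ≤ normalizer (primeFree A θ x a : Set G) :=
  le_normalizer_sSup fun _ hU => hU.2.2.1

theorem le_primeFree {x : ℕ} {a : G} {U : Subgroup G} (h : U ≤ θ a)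
    (hA : A ≤ normalizer (U : Set G)) (hK : core0 A θ ≤ normalizer (U : Set G))
    (hx : ¬ x ∣ Nat.card U) : U ≤ primeFree A θ x a := le_sSup ⟨h, hA, hK, hx⟩

theorem primeFree_setup {x : ℕ} (hx : x.Prime) : Setup A (primeFree A θ x) where
  elem := S.elem
  card := S.card
  sf := by
    refine ⟨fun a ha ha1 => (S.primeFree_le).trans (S.theta_le ⟨ha, ha1⟩), fun a ha ha1 h => ?_,
      fun a ha ha1 b hb y hy => (mem_normalizer_iff.1 (S.primeFree_norm_A hb) y).1 hy,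
      fun a ha ha1 b hb hb1 => ?_⟩
    · exact S.sf.2.1 a ha ha1 (h.trans (card_dvd_of_le S.primeFree_le))
    · refine S.le_primeFree ((inf_le_inf_right _ S.primeFree_le).trans
        (S.balance ⟨ha, ha1⟩ ⟨hb, hb1⟩)) (S.norm_inf S.primeFree_norm_A (S.norm_C hb))
        ((le_inf S.primeFree_norm_K ((S.core0_le_C hb).trans le_normalizer)).trans
          inf_normalizer_le_normalizer_inf)
        fun h => S.primeFree_spec hx ⟨ha, ha1⟩ (h.trans (card_dvd_of_le inf_le_left))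

theorem wt_primeFree_lt {x : ℕ} (hx : InPi A θ x) : wt A (primeFree A θ x) < wt A θ := by
  classical
  obtain ⟨hxp, a, ha, hd⟩ := hx
  haveI : Fintype {a : G // Pt A a} := Fintype.ofFinite _
  simp only [wt, Nat.card_sigma]
  refine Finset.sum_lt_sum (fun b _ => card_le_of_le S.primeFree_le) ⟨⟨a, ha⟩, Finset.mem_univ _, ?_⟩
  refine lt_of_le_of_ne (card_le_of_le S.primeFree_le) fun e => ?_
  exact S.primeFree_spec hxp ha (e ▸ hd)

end Setup

namespace Min

variable (M : Min A θ)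
include M

/-- A member containing three values: impossible. -/
theorem not_three {H : Subgroup G} (hH : Mem A θ H) {a b c : G} (ha : Pt A a) (hb : Pt A b)
    (hc : Pt A c) (hab : a ≠ b) (hac : a ≠ c) (hbc : b ≠ c) (h1 : θ a ≤ H) (h2 : θ b ≤ H)
    (h3 : θ c ≤ H) (hown : ∀ X, Mem A θ X → X ≠ ⊥ → ∃ J, Mem A θ J ∧ Owns A θ X J) : False := by
  have S := M.toSetup
  by_cases hcab : c = a * b
  · exact M.incomplete ⟨H, hH, fun v hv => S.mem_gen3 (S.theta_mem hv) ha hb hab h1 h2 (hcab ▸ h3)⟩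
  have hi : Indep A a b c := ⟨ha, hb, hc, hab, hac, hbc, hcab⟩
  -- the line avoiding `a, b, c`
  set x := a * b with hx
  set y := b * c with hy
  have hxp : Pt A x := S.mul_mem_pt ha hb hab
  have hyp : Pt A y := S.mul_mem_pt hb hc hbc
  have hxy : x ≠ y := fun e => by
    have : b * a = b * c := by rw [S.comm hb.1 ha.1]; exact e
    exact hac (mul_left_cancel this)
  have hxy' : x * y = a * c := by
    rw [hx, hy, show a * b * (b * c) = a * (b * b) * c by group, S.sq hb.1, mul_one]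
  -- one point `p` of the line, `q` another one, with two witnesses
  have step : ∀ p q s t, Pt A p → Pt A q → p ≠ q → Pt A s → Pt A t → p ≠ s → p ≠ t →
      θ s ≤ H → θ t ≤ H → ((q = s * t) ∨ (q = s * t * p)) →
      invGen (θ p) q ≤ H := by
    intro p q s t hp hq hpq hs ht hps hpt hsH htH hq'
    have h := S.invGen_le_pair (S.odd hp) (S.theta_norm hp) hs.1 ht.1 (R := H)
      ((S.balance hp hs).trans hsH) ((S.balance hp ht).trans htH)
    rcases hq' with rfl | rfl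
    · exact h
    refine le_trans (invGen_le_iff.2 fun w hw hinv => ?_) h
    refine mem_invGen hw ?_
    have hwp := mem_centralizer_singleton_iff_conj.1 (S.theta_le hp hw)
    calc s * t * w * (s * t)⁻¹ = s * t * (p * w * p⁻¹) * (s * t)⁻¹ := by rw [hwp]
      _ = s * t * p * w * (s * t * p)⁻¹ := by group
      _ = _ := hinv
  have hax : a ≠ x := fun e => hb.2 (mul_left_cancel (a := a) (by simpa [hx, hy] using e.symm))
  have hbx : b ≠ x := fun e => ha.2 (mul_right_cancel (b := b) (by simpa [hx, hy] using e.symm))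
  have hcx : c ≠ x := hcab
  have hby : b ≠ y := fun e => hc.2 (mul_left_cancel (a := b) (by simpa [hx, hy] using e.symm))
  have hcy : c ≠ y := fun e => hb.2 (mul_right_cancel (b := c) (by simpa [hx, hy] using e.symm))
  have hay : a ≠ y := fun e => hcab (by rw [hx, e, hy, S.comm (mul_mem hb.1 hc.1) hb.1, ← mul_assoc,
    S.sq hb.1, one_mul])
  have hzp : Pt A (a * c) := S.mul_mem_pt ha hc hac
  have haz : a ≠ a * c := fun e => hc.2 (mul_left_cancel (a := a) (by simpa [hx, hy] using e.symm))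
  have hbz : b ≠ a * c := fun e => hcab (by rw [hx, e, ← mul_assoc, S.sq ha.1, one_mul])
  have hzx : a * c ≠ x := fun e => hbc (mul_left_cancel e).symm
  -- the three commutators
  set E1 := invGen (θ x) y with hE1
  set E2 := invGen (θ y) x with hE2
  set E3 := invGen (θ (a * c)) x with hE3
  have hE1H : E1 ≤ H := step x y b c hxp hyp hxy hb hc hbx.symm hcx.symm h2 h3 (Or.inl rfl)
  have hE2H : E2 ≤ H := step y x a b hyp hxp hxy.symm ha hb hay.symm hby.symm h1 h2 (Or.inl rfl)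
  have hE3H : E3 ≤ H := step (a * c) x a b hzp hxp hzx ha hb haz.symm hbz.symm h1 h2 (Or.inl rfl)
  set Y := E1 ⊔ E2 ⊔ E3 with hY
  have hYH : Y ≤ H := sup_le (sup_le hE1H hE2H) hE3H
  have hEA : ∀ p q, Pt A p → q ∈ A → A ≤ normalizer (invGen (θ p) q : Set G) := fun p q hp hq =>
    le_normalizer_invGen_of_commute (S.theta_norm hp) (S.le_centralizer hq)
  have hYA : A ≤ normalizer (Y : Set G) :=
    CfsgLib.Coprime.le_normalizer_sup_sup
      (CfsgLib.Coprime.le_normalizer_sup_sup (hEA x y hxp hyp.1) (hEA y x hyp hxp.1))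
      (hEA _ x hzp hxp.1)
  set D := θ x ⊓ θ y with hD
  have hDz : D ≤ θ (a * c) := hxy' ▸ S.theta_inf_le hxp hyp hxy
  have hDC : ∀ g, (g = x ∨ g = y) → D ≤ centralizer ({g} : Set G) := by
    rintro g (rfl | rfl)
    exacts [inf_le_left.trans (S.theta_le hxp), inf_le_right.trans (S.theta_le hyp)]
  have hDY : D ≤ normalizer (Y : Set G) := by
    refine CfsgLib.Coprime.le_normalizer_sup_sup (CfsgLib.Coprime.le_normalizer_sup_sup ?_ ?_) ?_
    · exact le_normalizer_invGen_of_commute (inf_le_left.trans le_normalizer) (hDC y (Or.inr rfl))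
    · exact le_normalizer_invGen_of_commute (inf_le_right.trans le_normalizer) (hDC x (Or.inl rfl))
    · exact le_normalizer_invGen_of_commute (hDz.trans le_normalizer) (hDC x (Or.inl rfl))
  have hsplit : ∀ p q, Pt A p → Pt A q → θ p ⊓ centralizer ({q} : Set G) ≤ D →
      invGen (θ p) q ≤ Y → θ p ≤ normalizer (Y : Set G) ∧ θ p ≤ Y ⊔ D := by
    intro p q hp hq hfix hE
    have hs := sup_invGen (S.odd hp) (S.sq hq.1) (S.theta_norm hp hq.1)
    refine ⟨?_, ?_⟩ <;> rw [← hs]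
    · exact sup_le (hfix.trans hDY) (hE.trans le_normalizer)
    · exact sup_le (hfix.trans le_sup_right) (hE.trans le_sup_left)
  have f1 : θ x ⊓ centralizer ({y} : Set G) ≤ D := le_inf inf_le_left (S.balance hxp hyp)
  have f2 : θ y ⊓ centralizer ({x} : Set G) ≤ D := le_inf (S.balance hyp hxp) inf_le_left
  have f3 : θ (a * c) ⊓ centralizer ({x} : Set G) ≤ D := by
    refine le_inf (S.balance hzp hxp) fun g hg => ?_
    refine S.balance hzp hyp (mem_inf.2 ⟨hg.1, ?_⟩)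
    have h4 := mem_centralizer_singleton_iff.1 (S.theta_le hzp hg.1)
    have h5 := mem_centralizer_singleton_iff.1 hg.2
    have : y = x * (x * y) := by rw [← mul_assoc, S.sq hxp.1, one_mul]
    rw [mem_centralizer_singleton_iff, this, hxy']
    exact (show Commute g x from h5).mul_right h4
  obtain ⟨n1, g1⟩ := hsplit x y hxp hyp f1 (le_sup_left.trans le_sup_left)
  obtain ⟨n2, g2⟩ := hsplit y x hyp hxp f2 (le_sup_right.trans le_sup_left)
  obtain ⟨n3, g3⟩ := hsplit (a * c) x hzp hxp f3 le_sup_right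
  by_cases hY1 : Y = ⊥
  · have hDm : Mem A θ D :=
      S.mem_of_le (S.theta_mem hxp) inf_le_left (S.norm_inf (S.theta_norm hxp) (S.theta_norm hyp))
    rw [hY1, bot_sup_eq] at g1 g2 g3
    exact M.incomplete ⟨D, hDm, fun v hv =>
      S.mem_gen3 (S.theta_mem hv) hxp hyp hxy g1 g2 (hxy' ▸ g3)⟩
  obtain ⟨J, hJ, hJo⟩ := hown Y (S.mem_of_le hH hYH hYA) hY1
  exact M.incomplete ⟨J, hJ, fun v hv => S.mem_gen3 (S.theta_mem hv) hxp hyp hxy
    (hJo _ (S.theta_mem hxp) n1) (hJo _ (S.theta_mem hyp) n2)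
    (hxy' ▸ hJo _ (S.theta_mem hzp) n3)⟩

/-- The members normalising a nontrivial member lie in a single member. -/
theorem exists_mem_owns {X : Subgroup G} (hX : Mem A θ X) (hne : X ≠ ⊥) :
    ∃ Y, Mem A θ Y ∧ Owns A θ X Y := by
  have S := M.toSetup
  haveI : Fact (Nat.Prime 2) := ⟨Nat.prime_two⟩
  set N := normalizer (X : Set G) with hN
  by_cases hNG : N = ⊤
  · -- quotient
    exfalso
    haveI : X.Normal := normalizer_eq_top_iff.1 hNG
    set f := QuotientGroup.mk' X with hf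
    have hinj : ∀ a ∈ A, ∀ b ∈ A, f a = f b → a = b := by
      intro a ha b hb e
      have h1 : a⁻¹ * b ∈ A ⊓ X := mem_inf.2 ⟨mul_mem (inv_mem ha) hb, QuotientGroup.eq.1 e⟩
      rw [CfsgLib.Coprime.inf_eq_bot_of_coprime (S.coprime (S.mem_odd hX)), Subgroup.mem_bot] at h1
      exact inv_mul_eq_one.1 h1
    let θ' : G ⧸ X → Subgroup (G ⧸ X) := fun q =>
      ⨆ a : {a : G // a ∈ A ∧ f a = q}, (θ a.1).map f
    have hθ' : ∀ a ∈ A, θ' (f a) = (θ a).map f := fun a ha =>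
      le_antisymm (iSup_le fun b => by rw [hinj b.1 b.2.1 a ha b.2.2])
        (le_iSup_of_le (⟨a, ha, rfl⟩ : {b : G // b ∈ A ∧ f b = f a}) le_rfl)
    have S' : Setup (A.map f) θ' := by
      refine ⟨⟨⟨⟨?_⟩⟩, ?_⟩, ?_, ⟨?_, ?_, ?_, ?_⟩⟩
      · rintro ⟨_, a, ha, rfl⟩ ⟨_, b, hb, rfl⟩
        exact Subtype.ext (by show f a * f b = f b * f a; rw [← map_mul, S.comm ha hb, map_mul])
      · rintro _ ⟨a, ha, rfl⟩
        rw [← map_pow, S.elem.2 a ha, map_one]
      · refine (Nat.card_congr (Equiv.ofBijective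
          (fun a : A => (⟨f a, mem_map_of_mem f a.2⟩ : A.map f)) ⟨?_, ?_⟩)).symm.trans S.card
        · exact fun a b e => Subtype.ext (hinj _ a.2 _ b.2 (congrArg Subtype.val e))
        · rintro ⟨_, a, ha, rfl⟩; exact ⟨⟨a, ha⟩, rfl⟩
      · rintro _ ⟨a, ha, rfl⟩ h1
        rw [hθ' a ha]
        rintro _ ⟨y, hy, rfl⟩
        have ha1 : a ≠ 1 := fun e => h1 (by rw [e, map_one])
        rw [mem_centralizer_singleton_iff, ← map_mul,
          mem_centralizer_singleton_iff.1 (S.theta_le ⟨ha, ha1⟩ hy), map_mul]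
      · rintro _ ⟨a, ha, rfl⟩ h1 hd
        rw [hθ' a ha] at hd
        exact S.sf.2.1 a ha (fun e => h1 (by rw [e, map_one]))
          (hd.trans (CfsgLib.Base.card_map_dvd f _))
      · rintro _ ⟨a, ha, rfl⟩ h1 _ ⟨b, hb, rfl⟩
        rw [hθ' a ha]
        rintro _ ⟨y, hy, rfl⟩
        exact ⟨b * y * b⁻¹, S.sf.2.2.1 a ha (fun e => h1 (by rw [e, map_one])) b hb y hy, by simp⟩
      · rintro _ ⟨a, ha, rfl⟩ h1 _ ⟨b, hb, rfl⟩ h2
        have hap : Pt A a := ⟨ha, fun e => h1 (by rw [e, map_one])⟩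
        have hbp : Pt A b := ⟨hb, fun e => h2 (by rw [e, map_one])⟩
        rw [hθ' a ha, hθ' b hb]
        refine (map_inf_centralizer_le (S.theta_norm hap hb) ?_).trans (map_mono (S.balance hap hbp))
        exact Nat.Coprime.coprime_dvd_left (orderOf_coe (⟨b, hb⟩ : A) ▸ orderOf_dvd_natCard _)
          (S.coprime (S.mem_odd hX))
    obtain ⟨Y, hY, hYθ⟩ := M.group_ih (G ⧸ X) (CfsgLib.Coprime.card_quotient_lt hne) _ _ S'
    set Y' := Y.comap f with hY'
    have hodd : Odd (Nat.card Y') := by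
      rw [hY', hf, CfsgLib.Base.card_comap_mk']
      exact (S.mem_odd hX).mul (S'.mem_odd hY)
    have hY'm : Mem A θ Y' := by
      refine ⟨CfsgLib.FT.isSolvable_of_odd hodd,
        fun h => Nat.not_even_iff_odd.2 hodd (even_iff_two_dvd.2 h), fun b hb y hy => ?_,
        fun a ha ha1 y hy => ?_⟩
      · show f (b * y * b⁻¹) ∈ Y
        rw [map_mul, map_mul, map_inv]
        exact hY.2.2.1 _ (mem_map_of_mem f hb) _ hy
      · have hfa : f a ≠ 1 := fun e => ha1 (hinj a ha 1 (one_mem _) (by rw [e, map_one]))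
        have h1 : f y ∈ θ' (f a) := S'.mem_fix hY ⟨mem_map_of_mem f ha, hfa⟩
          (mem_inf.2 ⟨hy.1, by
            rw [mem_centralizer_singleton_iff, ← map_mul, mem_centralizer_singleton_iff.1 hy.2, map_mul]⟩)
        rw [hθ' a ha] at h1
        obtain ⟨s, hs, hse⟩ := h1
        have h2 : s⁻¹ * y ∈ X := QuotientGroup.eq.1 hse
        have h3 : s⁻¹ * y ∈ θ a := S.mem_fix hX ⟨ha, ha1⟩ (mem_inf.2 ⟨h2,
          mul_mem (inv_mem (S.theta_le ⟨ha, ha1⟩ hs)) hy.2⟩)
        simpa using mul_mem hs h3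
    refine M.incomplete ⟨Y', hY'm, fun a ha => map_le_iff_le_comap.1 ?_⟩
    rw [← hθ' a ha.1]
    exact hYθ _ ⟨mem_map_of_mem f ha.1, fun e => ha.2 (hinj a ha.1 1 (one_mem _) (by rw [e, map_one]))⟩
  · -- the normalizer
    have hAN : A ≤ N := S.mem_norm hX
    let θ' : N → Subgroup N := fun n => (θ (n : G) ⊓ N).subgroupOf N
    have S' : Setup (A.subgroupOf N) θ' := by
      refine ⟨⟨⟨⟨fun a b => Subtype.ext (Subtype.ext (S.comm a.2 b.2))⟩⟩,
        fun a ha => Subtype.ext (by simpa using S.elem.2 _ ha)⟩,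
        by rw [CfsgLib.Base.card_subgroupOf hAN, S.card], ⟨?_, ?_, ?_, ?_⟩⟩
      · intro a ha h1 y hy
        have hap : Pt A (a : G) := ⟨ha, fun e => h1 (Subtype.ext e)⟩
        rw [mem_centralizer_singleton_iff]
        exact Subtype.ext (mem_centralizer_singleton_iff.1 (S.theta_le hap hy.1))
      · intro a ha h1 hd
        rw [CfsgLib.Base.card_subgroupOf inf_le_right] at hd
        exact S.sf.2.1 a ha (fun e => h1 (Subtype.ext e)) (hd.trans (card_dvd_of_le inf_le_left))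
      · intro a ha h1 b hb y hy
        exact mem_inf.2 ⟨S.sf.2.2.1 (a : G) ha (fun e => h1 (Subtype.ext e)) b hb y hy.1,
          mul_mem (mul_mem b.2 y.2) (inv_mem b.2)⟩
      · intro a ha h1 b hb h2 y hy
        refine mem_inf.2 ⟨S.balance ⟨ha, fun e => h1 (Subtype.ext e)⟩
          ⟨hb, fun e => h2 (Subtype.ext e)⟩ (mem_inf.2 ⟨hy.1.1, ?_⟩), y.2⟩
        exact mem_centralizer_singleton_iff.2
          (congrArg Subtype.val (mem_centralizer_singleton_iff.1 hy.2))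
    have hlt : Nat.card N < Nat.card G := lt_of_le_of_ne (card_le_card_group N) fun e =>
      hNG (eq_top_of_card_eq _ e)
    obtain ⟨Y, hY, hYθ⟩ := M.group_ih N hlt _ _ S'
    set Y' := Y.map N.subtype with hY'
    have hY'm : Mem A θ Y' := by
      refine ⟨CfsgLib.Coprime.isSolvable_map _ hY.1, by rw [hY', card_map_subtype]; exact hY.2.1,
        ?_, fun a ha ha1 => ?_⟩
      · rintro b hb _ ⟨y, hy, rfl⟩
        exact ⟨⟨b, hAN hb⟩ * y * ⟨b, hAN hb⟩⁻¹, hY.2.2.1 ⟨b, hAN hb⟩ hb y hy, rfl⟩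
      · rintro _ ⟨⟨y, hy, rfl⟩, hyc⟩
        exact (S'.mem_fix hY (a := (⟨a, hAN ha⟩ : N)) ⟨ha, fun e => ha1 (congrArg Subtype.val e)⟩
          (mem_inf.2 ⟨hy, mem_centralizer_singleton_iff.2
            (Subtype.ext (mem_centralizer_singleton_iff.1 hyc))⟩)).1
    refine ⟨Y', hY'm, fun U hU hUN => ?_⟩
    obtain ⟨a, b, c, ha, hb, -, hab, -⟩ := S.exists_indep
    have key : ∀ v, Pt A v → U ⊓ centralizer ({v} : Set G) ≤ Y' := fun v hv y hy =>
      ⟨⟨y, hUN hy.1⟩, hYθ (⟨v, hAN hv.1⟩ : N) ⟨hv.1, fun e => hv.2 (congrArg Subtype.val e)⟩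
        (mem_inf.2 ⟨S.mem_fix hU hv hy, hUN hy.1⟩), rfl⟩
    exact S.gen3 (S.mem_odd hU) (S.mem_norm hU) ha.1 hb.1 (key a ha) (key b hb)
      (key _ (S.mul_mem_pt ha hb hab))

theorem no_three {H : Subgroup G} (hH : Mem A θ H) {a b c : G} (ha : Pt A a) (hb : Pt A b)
    (hc : Pt A c) (hab : a ≠ b) (hac : a ≠ c) (hbc : b ≠ c) (h1 : θ a ≤ H) (h2 : θ b ≤ H)
    (h3 : θ c ≤ H) : False :=
  M.not_three hH ha hb hc hab hac hbc h1 h2 h3 fun _ hX hne => M.exists_mem_owns hX hne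

theorem exists_owner {X : Subgroup G} (hX : Mem A θ X) (hne : X ≠ ⊥)
    (hK : core0 A θ ≤ normalizer (X : Set G)) : ∃ J, AKMax A θ J ∧ Owns A θ X J := by
  obtain ⟨Y, hY, hYo⟩ := M.exists_mem_owns hX hne
  obtain ⟨J, hJ, hle⟩ := M.toSetup.exists_akmax hY (hYo _ M.toSetup.core0_mem hK)
  exact ⟨J, hJ, fun U hU hn => (hYo U hU hn).trans hle⟩

theorem owns_of_normal {J X : Subgroup G} (hJ : AKMax A θ J) (hX : X ≤ J) (hne : X ≠ ⊥)
    (hn : J ≤ normalizer (X : Set G)) (hAX : A ≤ normalizer (X : Set G)) : Owns A θ X J := by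
  have hXm := M.toSetup.mem_of_le hJ.mem hX hAX
  obtain ⟨H, hH, hHo⟩ := M.exists_owner hXm hne (hJ.K_le.trans hn)
  rw [← hJ.max H hH.mem (hHo J hJ.mem hn)]
  exact hHo

/-- The member `L_x`. -/
theorem exists_Lx {x : ℕ} (hx : InPi A θ x) : ∃ L, AKMax A θ L ∧
    ∀ U, Mem A θ U → core0 A θ ≤ normalizer (U : Set G) → ¬ x ∣ Nat.card U → U ≤ L := by
  have S := M.toSetup
  obtain ⟨Y, hY, hYθ⟩ := M.functor_ih _ (S.primeFree_setup hx.1) (S.wt_primeFree_lt hx)
  set Y₀ := sSup {V : Subgroup G | ∃ a, Pt A a ∧ V = Setup.primeFree A θ x a} with hY₀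
  have hY₀Y : Y₀ ≤ Y := sSup_le fun V ⟨a, ha, hV⟩ => hV ▸ hYθ a ha
  have hY₀m : Mem A θ Y₀ := by
    refine S.mem_of_le (V := Y) ⟨hY.1, hY.2.1, hY.2.2.1,
      fun a ha ha1 => (hY.2.2.2 a ha ha1).trans S.primeFree_le⟩ hY₀Y ?_
    exact le_normalizer_sSup fun V ⟨a, _, hV⟩ => hV ▸ S.primeFree_norm_A
  obtain ⟨L, hL, hle⟩ := S.exists_akmax_sup hY₀m
    (le_normalizer_sSup fun V ⟨a, _, hV⟩ => hV ▸ S.primeFree_norm_K)
  refine ⟨L, hL, fun U hU hUK hUx => ?_⟩
  obtain ⟨a, b, c, ha, hb, -, hab, -⟩ := S.exists_indep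
  have key : ∀ v, Pt A v → U ⊓ centralizer ({v} : Set G) ≤ L := fun v hv =>
    (S.le_primeFree (S.mem_fix hU hv) (S.norm_inf (S.mem_norm hU) (S.norm_C hv.1))
      ((le_inf hUK ((S.core0_le_C hv.1).trans le_normalizer)).trans inf_normalizer_le_normalizer_inf)
      (fun h => hUx (h.trans (card_dvd_of_le inf_le_left)))).trans
      (le_trans (le_sSup ⟨v, hv, rfl⟩ : _ ≤ Y₀) hle)
  exact S.gen3 (S.mem_odd hU) (S.mem_norm hU) ha.1 hb.1 (key a ha) (key b hb)
    (key _ (S.mul_mem_pt ha hb hab))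

end Min

end CfsgLib.Signalizer2
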