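import Mathlib
import Cfsg.Agent.Lib.Signalizer2.Members
import Cfsg.Agent.Lib.PLocal.ZJ
import Cfsg.Agent.Lib.Transfer.SL2Free
import Cfsg.Agent.Lib.PLocal.PSolvable
import Cfsg.Agent.Lib.Involutions.ConstrainedLocal
import Cfsg.Agent.Lib.Base.MinimalNormal

/-!
# Uniqueness of maximal members (Bender's method)
-/

set_option autoImplicit false
set_option linter.style.haveILetI false
set_option linter.unusedSectionVars false

open scoped Pointwise commutatorElement

namespace CfsgLib.Signalizer2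

open Cfsg Subgroup CfsgLib.Base CfsgLib.Signalizer CfsgLib.Components

universe u

variable {G : Type u} [Group G] [Finite G] {A : Subgroup G} {θ : G → Subgroup G}

/-- `O_q(H)` in the ambient group. -/
abbrev Oc (q : ℕ) (H : Subgroup G) : Subgroup G := CfsgLib.Components.coreOf q H

/-- The centre of `O_q(H)`. -/
def Zc (q : ℕ) (H : Subgroup G) : Subgroup G := Oc q H ⊓ centralizer (Oc q H : Set G)

/-- The prime `q` occurs in the Fitting subgroup of `H`. -/
def InS (q : ℕ) (H : Subgroup G) : Prop := q.Prime ∧ Oc q H ≠ ⊥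

/-- At least two primes occur in the Fitting subgroup. -/
def Two (H : Subgroup G) : Prop := ∃ q r, q ≠ r ∧ InS q H ∧ InS r H

theorem Oc_le (q : ℕ) (H : Subgroup G) : Oc q H ≤ H := map_subtype_le _

theorem Oc_norm (q : ℕ) (H : Subgroup G) : H ≤ normalizer (Oc q H : Set G) :=
  CfsgLib.Base.le_normalizer_map_pCore H

theorem normalizer_le_Oc (q : ℕ) (H : Subgroup G) :
    normalizer (H : Set G) ≤ normalizer (Oc q H : Set G) :=
  normalizer_le_normalizer_map_subtype H _

theorem Oc_isPGroup (q : ℕ) (H : Subgroup G) : IsPGroup q (Oc q H) :=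
  isPGroup_map_pCore q H

theorem normalizer_Oc_le_Zc (q : ℕ) (H : Subgroup G) :
    normalizer (Oc q H : Set G) ≤ normalizer (Zc q H : Set G) :=
  (le_inf le_rfl (CfsgLib.Coprime.le_normalizer_centralizer le_rfl)).trans
    inf_normalizer_le_normalizer_inf

theorem Zc_le (q : ℕ) (H : Subgroup G) : Zc q H ≤ Oc q H := inf_le_left

theorem Zc_ne_bot {q : ℕ} {H : Subgroup G} (h : InS q H) : Zc q H ≠ ⊥ := by
  haveI := Fact.mk h.1
  haveI : Nontrivial ↥(Oc q H) := (nontrivial_iff_ne_bot _).2 h.2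
  haveI := (Oc_isPGroup q H).center_nontrivial
  obtain ⟨z, hz⟩ := exists_ne (1 : center ↥(Oc q H))
  intro e
  refine hz (Subtype.ext (Subtype.ext ?_))
  have : ((z : ↥(Oc q H)) : G) ∈ Zc q H := mem_inf.2 ⟨(z : ↥(Oc q H)).2,
    mem_centralizer_iff.2 fun g hg => congrArg Subtype.val (mem_center_iff.1 z.2 ⟨g, hg⟩)⟩
  rw [e, Subgroup.mem_bot] at this
  exact this

theorem inf_eq_bot_of_primes {q r : ℕ} (hq : q.Prime) (hr : r.Prime) (hne : q ≠ r) {U V : Subgroup G}
    (hU : IsPGroup q U) (hV : IsPGroup r V) : U ⊓ V = ⊥ :=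
  haveI := Fact.mk hq
  haveI := Fact.mk hr
  disjoint_iff.1 (IsPGroup.disjoint_of_ne q r hne U V hU hV)

theorem coprime_of_primes {q r : ℕ} (hq : q.Prime) (hr : r.Prime) (hne : q ≠ r) {U : Subgroup G}
    (hU : IsPGroup q U) : (Nat.card U).Coprime r := by
  haveI := Fact.mk hq
  obtain ⟨n, hn⟩ := IsPGroup.iff_card.1 hU
  rw [hn]
  exact ((Nat.coprime_primes hq hr).2 hne).pow_left n

theorem mem_fit_of_centralizes {H : Subgroup G} (hH : Group.IsSolvable H) {y : G} (hy : y ∈ H)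
    (h : ∀ q, q.Prime → y ∈ centralizer (Oc q H : Set G)) : y ∈ fitOf H := by
  haveI := hH
  have hC : (⟨y, hy⟩ : H) ∈ centralizer (fittingSubgroup H : Set H) := by
    refine mem_centralizer_iff.2 fun r hr => Subtype.ext ?_
    have h1 : fitOf H ≤ centralizer ({y} : Set G) := by
      rw [fitOf_eq_iSup]
      exact iSup_le fun t g hg => mem_centralizer_singleton_iff.2
        (mem_centralizer_iff.1 (h t t.2) g hg)
    exact mem_centralizer_singleton_iff.1 (h1 ⟨r, hr, rfl⟩)
  exact ⟨_, centralizer_fittingSubgroup_le hC, rfl⟩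

theorem pgroup_le_Oc_of_le_fit {H Y : Subgroup G} {q : ℕ} (hq : q.Prime)
    (hY : IsPGroup q Y) (hYF : Y ≤ fitOf H) : Y ≤ Oc q H := by
  haveI := Fact.mk hq
  intro y hy
  obtain ⟨z, hz, rfl⟩ := hYF hy
  refine ⟨z, ?_, rfl⟩
  exact pGroup_le_pCore_of_le_fitting (hY.comap_of_injective H.subtype H.subtype_injective)
    (fun w hw => by
      obtain ⟨v, hv, hve⟩ := hYF hw
      rwa [← H.subtype_injective hve]) hy

theorem pgroup_le_Oc {H Y : Subgroup G} (hH : Group.IsSolvable H) {q : ℕ} (hq : q.Prime)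
    (hY : IsPGroup q Y) (hYH : Y ≤ H)
    (h : ∀ r, r.Prime → Y ≤ centralizer (Oc r H : Set G)) : Y ≤ Oc q H :=
  pgroup_le_Oc_of_le_fit hq hY fun y hy =>
    mem_fit_of_centralizes hH (hYH hy) fun r hr => h r hr hy

theorem pgroup_le_Zc {H Y : Subgroup G} {q : ℕ} (hq : q.Prime) (hY : IsPGroup q Y)
    (hYF : Y ≤ fitOf H ⊓ centralizer (fitOf H : Set G)) : Y ≤ Zc q H :=
  haveI := Fact.mk hq
  le_inf (pgroup_le_Oc_of_le_fit hq hY (hYF.trans inf_le_left))
    ((hYF.trans inf_le_right).trans (centralizer_le (coreOf_le_fitOf H)))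

theorem exists_inS {H : Subgroup G} (hH : Group.IsSolvable H) (hne : H ≠ ⊥) : ∃ q, InS q H := by
  haveI := hH
  haveI : Nontrivial H := (nontrivial_iff_ne_bot _).2 hne
  obtain ⟨q, hq, hne'⟩ := exists_prime_pCore_ne_bot (G := H)
  exact ⟨q, hq, fun e => hne' ((map_eq_bot_iff_of_injective _ H.subtype_injective).1 e)⟩

namespace Setup

variable (S : Setup A θ)
include S

theorem Oc_mem {H : Subgroup G} (hH : Mem A θ H) (q : ℕ) : Mem A θ (Oc q H) :=
  S.mem_of_le hH (Oc_le q H) ((S.mem_norm hH).trans (normalizer_le_Oc q H))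

theorem Oc_norm_A {H : Subgroup G} (hH : Mem A θ H) (q : ℕ) : A ≤ normalizer (Oc q H : Set G) :=
  S.mem_norm (S.Oc_mem hH q)

theorem Zc_mem {H : Subgroup G} (hH : Mem A θ H) (q : ℕ) : Mem A θ (Zc q H) :=
  S.mem_of_le hH ((Zc_le q H).trans (Oc_le q H))
    ((S.Oc_norm_A hH q).trans (normalizer_Oc_le_Zc q H))

theorem inPi_of_inS {H : Subgroup G} (hH : Mem A θ H) {q : ℕ} (h : InS q H) : InPi A θ q := by
  haveI := Fact.mk h.1
  refine S.inPi_of_dvd hH h.1 (dvd_trans ?_ (card_dvd_of_le (Oc_le q H)))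
  obtain ⟨n, hn⟩ := IsPGroup.iff_card.1 (Oc_isPGroup q H)
  rw [hn]
  refine dvd_pow_self q fun h0 => h.2 (Subgroup.card_eq_one.1 ?_)
  rw [hn, h0, pow_zero]

theorem prime_ne_two {H : Subgroup G} (hH : Mem A θ H) {q : ℕ} (h : InS q H) : q ≠ 2 := by
  rintro rfl
  obtain ⟨_, a, ha, hd⟩ := S.inPi_of_inS hH h
  exact S.sf.2.1 a ha.1 ha.2 hd

theorem le_C_of_cores {H : Subgroup G} (hH : Mem A θ H) {a : G} (ha : a ∈ A)
    (h : ∀ q, q.Prime → Oc q H ≤ centralizer ({a} : Set G)) : H ≤ centralizer ({a} : Set G) := by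
  have hodd := S.mem_odd hH
  refine le_centralizer_of_invGen_le hodd (S.sq ha) (S.mem_norm hH ha) (X := fitOf H) ?_ ?_
  · refine invGen_le_iff.2 fun z hz hinv => mem_fit_of_centralizes hH.1 hz fun q hq => ?_
    exact mem_centralizer_of_isPM (Or.inl (h q hq)) (Oc_norm q H hz) (odd_orderOf hodd hz) hinv
  · rw [fitOf_eq_iSup]
    exact iSup_le fun t => h t t.2

theorem invGen_le_ZF {H : Subgroup G} (hH : Mem A θ H) {a : G}
    (h : ∀ q, q.Prime → IsPM a (Oc q H)) :
    invGen H a ≤ fitOf H ⊓ centralizer (fitOf H : Set G) := by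
  refine invGen_le_iff.2 fun z hz hinv => ?_
  have key : ∀ q, q.Prime → z ∈ centralizer (Oc q H : Set G) := fun q hq =>
    mem_centralizer_of_isPM (h q hq) (Oc_norm q H hz) (odd_orderOf (S.mem_odd hH) hz) hinv
  refine mem_inf.2 ⟨mem_fit_of_centralizes hH.1 hz key, mem_centralizer_iff.2 fun g hg => ?_⟩
  have h1 : fitOf H ≤ centralizer ({z} : Set G) := by
    rw [fitOf_eq_iSup]
    exact iSup_le fun t w hw => mem_centralizer_singleton_iff.2
      (mem_centralizer_iff.1 (key t t.2) w hw)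
  exact mem_centralizer_singleton_iff.1 (h1 hg)

end Setup

/-- A normalised subgroup of order prime to `r` lies in `O_{r'}`. -/
theorem le_pPrime_of_normalized {H P U : Subgroup G} (hH : Group.IsSolvable H) {r : ℕ}
    [Fact r.Prime] (hP : IsPGroup r P) (hPH : P ≤ H) (hUH : U ≤ H)
    (hUP : U ≤ normalizer (P : Set G)) (hn : H ⊓ normalizer (P : Set G) ≤ normalizer (U : Set G))
    (hU : (Nat.card U).Coprime r) : U ≤ (pPrimeCore r H).map H.subtype := by
  haveI := hH
  set N := normalizer ((P.subgroupOf H : Subgroup H) : Set H) with hN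
  have hN' : N = (normalizer (P : Set G)).subgroupOf H :=
    CfsgLib.Involutions.subgroupOf_normalizer_eq hPH
  have h1 : U.subgroupOf H ≤ (pPrimeCore r N).map N.subtype := by
    refine le_map_pPrimeCore ?_ ?_ (by rwa [card_subgroupOf hUH])
    · rw [hN']; exact comap_mono hUP
    · rw [hN']
      intro g hg
      exact subgroupOf_le_normalizer (X := H ⊓ normalizer (P : Set G)) H hn
        (show g ∈ (H ⊓ normalizer (P : Set G)).subgroupOf H from mem_inf.2 ⟨g.2, hg⟩)
  have h2 := CfsgLib.PLocal.map_pPrimeCore_normalizer (P := P.subgroupOf H)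
    (CfsgLib.PLocal.isPConstrained_of_isPSolvable CfsgLib.PLocal.isPSolvable_of_isSolvable)
    hP.comap_subtype
  rw [← hN] at h2
  rw [h2] at h1
  intro x hx
  exact ⟨⟨x, hUH hx⟩, (h1 (show (⟨x, hUH hx⟩ : H) ∈ U.subgroupOf H from hx)).1, rfl⟩

namespace Min

variable (M : Min A θ)
include M

theorem akmax_ne_bot {J : Subgroup G} (hJ : AKMax A θ J) : J ≠ ⊥ := by
  intro e
  refine M.incomplete (M.toSetup.complete_of_bot fun a ha => ?_)
  rw [← e]
  exact hJ.max _ (M.toSetup.theta_mem ha) (e ▸ bot_le)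

theorem exists_inS {J : Subgroup G} (hJ : AKMax A θ J) : ∃ q, InS q J :=
  CfsgLib.Signalizer2.exists_inS hJ.mem.1 (M.akmax_ne_bot hJ)

theorem owns_Oc {J : Subgroup G} (hJ : AKMax A θ J) {q : ℕ} (h : InS q J) :
    Owns A θ (Oc q J) J :=
  M.owns_of_normal hJ (Oc_le q J) h.2 (Oc_norm q J) (M.toSetup.Oc_norm_A hJ.mem q)

theorem owns_Zc {J : Subgroup G} (hJ : AKMax A θ J) {q : ℕ} (h : InS q J) :
    Owns A θ (Zc q J) J :=
  M.owns_of_normal hJ ((Zc_le q J).trans (Oc_le q J)) (Zc_ne_bot h)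
    ((Oc_norm q J).trans (normalizer_Oc_le_Zc q J)) (M.toSetup.mem_norm (M.toSetup.Zc_mem hJ.mem q))

/-- The key step of Bender's theorem. -/
theorem core_le_core {J H : Subgroup G} (hJ : AKMax A θ J) (hH : AKMax A θ H)
    (h1 : ∀ q, q.Prime → Oc q J ≤ H) (h2 : ∀ q, q.Prime → Oc q H ≤ J)
    (hσ : ∀ q, InS q J ↔ InS q H) (htwo : Two H) (q : ℕ) (hq : q.Prime) : Oc q J ≤ Oc q H := by
  have S := M.toSetup
  haveI := hH.mem.1
  haveI := Fact.mk hq
  let O' : ℕ → Subgroup G := fun r => (pPrimeCore r H).map H.subtype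
  let Y : ℕ → Subgroup G := fun p => H ⊓ ⨅ r : {r : ℕ // InS r H ∧ r ≠ p}, O' r.1
  have hO'n : ∀ r, normalizer (H : Set G) ≤ normalizer (O' r : Set G) := fun r =>
    normalizer_le_normalizer_map_subtype H _
  have hYn : ∀ p, normalizer (H : Set G) ≤ normalizer (Y p : Set G) := by
    intro p
    refine le_normalizer_of_conj_mem fun g hg y hy => ?_
    simp only [Y, mem_inf, mem_iInf] at hy ⊢
    exact ⟨(mem_normalizer_iff.1 hg y).1 hy.1,
      fun r => (mem_normalizer_iff.1 (hO'n r.1 hg) y).1 (hy.2 r)⟩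
  have hU : ∀ p, p.Prime → Oc p J ≤ Y p := by
    intro p hp
    refine le_inf (h1 p hp) (le_iInf fun r => ?_)
    obtain ⟨r, hr, hrp⟩ := r
    haveI := Fact.mk hr.1
    have hrJ : InS r J := (hσ r).2 hr
    refine le_pPrime_of_normalized hH.mem.1 (Oc_isPGroup r J) (h1 r hr.1) (h1 p hp)
      ((Oc_le p J).trans (Oc_norm r J)) ?_ (coprime_of_primes hp hr.1 (Ne.symm hrp) (Oc_isPGroup p J))
    refine le_trans (M.owns_Oc hJ hrJ _ ?_ inf_le_right) (Oc_norm p J)
    exact S.mem_of_le hH.mem inf_le_left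
      (S.norm_inf (S.mem_norm hH.mem) ((S.Oc_norm_A hJ.mem r).trans le_normalizer))
  have hYY : ∀ p r, p ≠ r → Y p ⊓ Y r = ⊥ := by
    intro p r hpr
    set W := Y p ⊓ Y r with hW
    have hWH : W ≤ H := inf_le_left.trans inf_le_left
    by_contra hne
    have hWn : (W.subgroupOf H).Normal := normal_subgroupOf_of_le_normalizer
      ((le_normalizer).trans ((le_inf (hYn p) (hYn r)).trans inf_normalizer_le_normalizer_inf))
    obtain ⟨s, hs, hsne⟩ := CfsgLib.Signalizer2.exists_inS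
      (CfsgLib.Coprime.isSolvable_of_le hWH hH.mem.1) hne
    have hle : Oc s W ≤ Oc s H := map_pCore_le_of_normal_subgroupOf hWH hWn
    have hsH : InS s H := ⟨hs, fun e => hsne (le_bot_iff.1 (e ▸ hle))⟩
    haveI := Fact.mk hs
    have hWs : W ≤ O' s := by
      by_cases hsp : s = p
      · exact inf_le_right.trans (inf_le_right.trans
          (iInf_le _ (⟨s, hsH, hsp ▸ hpr⟩ : {x : ℕ // InS x H ∧ x ≠ r})))
      · exact inf_le_left.trans (inf_le_right.trans
          (iInf_le _ (⟨s, hsH, hsp⟩ : {x : ℕ // InS x H ∧ x ≠ p})))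
    refine hsne (le_bot_iff.1 ?_)
    rw [← inf_eq_bot_of_isPGroup_of_coprime (Oc_isPGroup s W) (coprime_card_map_pPrimeCore (p := s) H)]
    exact le_inf le_rfl ((Oc_le s W).trans hWs)
  have hYJ : ∀ r, r.Prime → Y r ≤ J := by
    intro r hr
    obtain ⟨p, p', hpp', hp, hp'⟩ := htwo
    obtain ⟨s, hs, hsr⟩ : ∃ s, InS s H ∧ s ≠ r := by
      by_cases e : p = r
      exacts [⟨p', hp', fun e' => hpp' (e.trans e'.symm)⟩, ⟨p, hp, e⟩]
    refine M.owns_Oc hJ ((hσ s).2 hs) _
      (S.mem_of_le hH.mem inf_le_left ((S.mem_norm hH.mem).trans (hYn r))) ?_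
    refine le_normalizer_of_le_centralizer ((le_centralizer_of_normalize (hYY r s (Ne.symm hsr))
      ((inf_le_left : Y r ≤ H).trans (le_normalizer.trans (hYn s)))
      ((inf_le_left : Y s ≤ H).trans (le_normalizer.trans (hYn r)))).trans (centralizer_le (hU s hs.1)))
  -- `O_q(J)` is a normal `q`-subgroup of `Y q`
  have hUY := hU q hq
  have hn : Y q ≤ normalizer (Oc q J : Set G) := (hYJ q hq).trans (Oc_norm q J)
  refine le_trans (le_map_pCore hUY hn (Oc_isPGroup q J)) ?_
  exact map_pCore_le_of_normal_subgroupOf inf_le_left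
    (normal_subgroupOf_of_le_normalizer (le_normalizer.trans (hYn q)))

/-- Bender's theorem, form A. -/
theorem bender_A {J H : Subgroup G} (hJ : AKMax A θ J) (hH : AKMax A θ H)
    (h1 : ∀ q, q.Prime → Oc q J ≤ H) (hsub : ∀ q, InS q H → InS q J) (htwo : Two J) : J = H := by
  have S := M.toSetup
  -- `O_q(J)` centralises `O_r(H)` for `r ≠ q`
  have hc : ∀ q r, q.Prime → InS r J → q ≠ r → Oc q J ≤ centralizer (Oc r H : Set G) := by
    intro q r hq hr hne
    haveI := Fact.mk hr.1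
    set X := Oc r H
    set V := Oc r J
    set U := Oc q J
    have hd : X ⊓ U = ⊥ := inf_eq_bot_of_primes hr.1 hq (Ne.symm hne) (Oc_isPGroup r H) (Oc_isPGroup q J)
    have hUV : U ≤ centralizer (V : Set G) := le_centralizer_of_normalize
      (inf_eq_bot_of_primes hq hr.1 hne (Oc_isPGroup q J) (Oc_isPGroup r J))
      ((Oc_le q J).trans (Oc_norm r J)) ((Oc_le r J).trans (Oc_norm q J))
    have hUX : U ≤ normalizer (X : Set G) := (h1 q hq).trans (Oc_norm r H)
    have hCJ : X ⊓ centralizer (V : Set G) ≤ J := M.owns_Oc hJ hr _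
      (S.mem_of_le hH.mem (inf_le_left.trans (Oc_le r H)) (S.norm_inf (S.Oc_norm_A hH.mem r)
        (CfsgLib.Coprime.le_normalizer_centralizer (S.Oc_norm_A hJ.mem r))))
      (inf_le_right.trans (centralizer_le_normalizer _))
    have hUC : U ≤ normalizer ((X ⊓ centralizer (V : Set G) : Subgroup G) : Set G) :=
      (le_inf hUX (CfsgLib.Coprime.le_normalizer_centralizer ((Oc_le q J).trans (Oc_norm r J)))).trans
        inf_normalizer_le_normalizer_inf
    refine CfsgLib.Coprime.pq_lemma (p := r) (P := V) (Oc_isPGroup r J)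
      (coprime_of_primes hq hr.1 hne (Oc_isPGroup q J)) (Oc_isPGroup r H)
      (le_centralizer_iff.1 hUV) ((h1 r hr.1).trans (Oc_norm r H)) hUX ?_
    refine le_centralizer_of_normalize ?_ (hCJ.trans (Oc_norm q J)) hUC
    exact le_bot_iff.1 ((inf_le_inf_right U inf_le_left).trans hd.le)
  obtain ⟨p, p', hpp', hp, hp'⟩ := htwo
  -- `F(H) ≤ J`
  have h2 : ∀ r, r.Prime → Oc r H ≤ J := by
    intro r hr
    by_cases hrH : Oc r H = ⊥
    · rw [hrH]; exact bot_le
    have hrJ := hsub r ⟨hr, hrH⟩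
    obtain ⟨q, hq, hqr⟩ : ∃ q, InS q J ∧ q ≠ r := by
      by_cases e : p = r
      exacts [⟨p', hp', fun e' => hpp' (e.trans e'.symm)⟩, ⟨p, hp, e⟩]
    exact M.owns_Oc hJ hq _ (S.Oc_mem hH.mem r)
      (le_normalizer_of_le_centralizer (le_centralizer_iff.1 (hc q r hq.1 hrJ hqr)))
  have hσ : ∀ q, InS q J ↔ InS q H := fun q => ⟨fun hq => ⟨hq.1, fun e => by
    refine hq.2 (le_bot_iff.1 (e ▸ ?_))
    refine pgroup_le_Oc hH.mem.1 hq.1 (Oc_isPGroup q J) (h1 q hq.1) fun r hr => ?_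
    by_cases hrH : Oc r H = ⊥
    · rw [hrH]; intro x _; exact mem_centralizer_iff.2 fun y hy => by rw [Subgroup.mem_bot.1 hy]; simp
    exact hc q r hq.1 (hsub r ⟨hr, hrH⟩) fun e' => hrH (e' ▸ e)⟩, hsub q⟩
  have hHtwo : Two H := ⟨p, p', hpp', (hσ p).1 hp, (hσ p').1 hp'⟩
  have e1 : Oc p J = Oc p H := le_antisymm (M.core_le_core hJ hH h1 h2 hσ hHtwo p hp.1)
    (M.core_le_core hH hJ h2 h1 (fun q => (hσ q).symm) ⟨p, p', hpp', hp, hp'⟩ p hp.1)
  refine (hH.max J hJ.mem ?_)
  exact M.owns_Oc hJ hp H hH.mem (e1 ▸ Oc_norm p H)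

/-- Bender's theorem, form A+. -/
theorem bender_A' {J H : Subgroup G} (hJ : AKMax A θ J) (hH : AKMax A θ H)
    (h1 : ∀ q, q.Prime → Zc q H ≤ J) (hsub : ∀ q, InS q J → InS q H) (htwo : Two H) : J = H := by
  have S := M.toSetup
  have hc : ∀ q r, q.Prime → InS r H → q ≠ r → Zc q H ≤ centralizer (Oc r J : Set G) := by
    intro q r hq hr hne
    haveI := Fact.mk hr.1
    set X := Oc r J
    set V := Zc r H
    set U := Zc q H
    have hVp : IsPGroup r V := (Oc_isPGroup r H).to_le (Zc_le r H)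
    have hUp : IsPGroup q U := (Oc_isPGroup q H).to_le (Zc_le q H)
    have hUV : U ≤ centralizer (V : Set G) := le_centralizer_of_normalize
      (inf_eq_bot_of_primes hq hr.1 hne hUp hVp)
      (((Zc_le q H).trans (Oc_le q H)).trans ((Oc_norm r H).trans (normalizer_Oc_le_Zc r H)))
      (((Zc_le r H).trans (Oc_le r H)).trans ((Oc_norm q H).trans (normalizer_Oc_le_Zc q H)))
    have hUX : U ≤ normalizer (X : Set G) := (h1 q hq).trans (Oc_norm r J)
    have hCH : X ⊓ centralizer (V : Set G) ≤ H := M.owns_Zc hH hr _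
      (S.mem_of_le hJ.mem (inf_le_left.trans (Oc_le r J)) (S.norm_inf (S.Oc_norm_A hJ.mem r)
        (CfsgLib.Coprime.le_normalizer_centralizer (S.mem_norm (S.Zc_mem hH.mem r)))))
      (inf_le_right.trans (centralizer_le_normalizer _))
    refine CfsgLib.Coprime.pq_lemma (p := r) (P := V) hVp
      (coprime_of_primes hq hr.1 hne hUp) (Oc_isPGroup r J)
      (le_centralizer_iff.1 hUV) ((h1 r hr.1).trans (Oc_norm r J)) hUX ?_
    refine le_centralizer_of_normalize ?_
      (hCH.trans ((Oc_norm q H).trans (normalizer_Oc_le_Zc q H)))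
      ((le_inf hUX (CfsgLib.Coprime.le_normalizer_centralizer
        (((Zc_le q H).trans (Oc_le q H)).trans ((Oc_norm r H).trans (normalizer_Oc_le_Zc r H))))).trans
        inf_normalizer_le_normalizer_inf)
    exact inf_eq_bot_of_primes hr.1 hq (Ne.symm hne) ((Oc_isPGroup r J).to_le inf_le_left) hUp
  obtain ⟨p, p', hpp', hp, hp'⟩ := htwo
  have h2 : ∀ r, r.Prime → Oc r J ≤ H := by
    intro r hr
    by_cases hrJ : Oc r J = ⊥
    · rw [hrJ]; exact bot_le
    have hrH := hsub r ⟨hr, hrJ⟩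
    obtain ⟨q, hq, hqr⟩ : ∃ q, InS q H ∧ q ≠ r := by
      by_cases e : p = r
      exacts [⟨p', hp', fun e' => hpp' (e.trans e'.symm)⟩, ⟨p, hp, e⟩]
    exact M.owns_Zc hH hq _ (S.Oc_mem hJ.mem r)
      (le_normalizer_of_le_centralizer (le_centralizer_iff.1 (hc q r hq.1 hrH hqr)))
  have hσ : ∀ q, InS q H → InS q J := fun q hq => ⟨hq.1, fun e => by
    refine Zc_ne_bot hq (le_bot_iff.1 (e ▸ ?_))
    refine pgroup_le_Oc hJ.mem.1 hq.1 ((Oc_isPGroup q H).to_le (Zc_le q H)) (h1 q hq.1) fun r hr => ?_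
    by_cases hrJ : Oc r J = ⊥
    · rw [hrJ]; intro x _; exact mem_centralizer_iff.2 fun y hy => by rw [Subgroup.mem_bot.1 hy]; simp
    exact hc q r hq.1 (hsub r ⟨hr, hrJ⟩) fun e' => hrJ (e' ▸ e)⟩
  exact M.bender_A hJ hH h2 hσ ⟨p, p', hpp', hσ p hp, hσ p' hp'⟩

omit M in
theorem not_involvesSL2_of_odd {t : ℕ} (ht : t.Prime) (ht2 : t ≠ 2) {H : Type u} [Group H] [Finite H]
    (hH : Odd (Nat.card H)) : ¬ CfsgLib.OddOrder.InvolvesSL2 t H := by
  rintro ⟨K₀, f, hf⟩
  haveI := Fact.mk ht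
  have hne : (-1 : Matrix.SpecialLinearGroup (Fin 2) (ZMod t)) ≠ 1 := fun e => by
    have h00 := congrArg (fun g : Matrix.SpecialLinearGroup (Fin 2) (ZMod t) =>
      (g : Matrix (Fin 2) (Fin 2) (ZMod t)) 0 0) e
    simp at h00
    haveI : Fact (2 < t) := ⟨lt_of_le_of_ne ht.two_le (Ne.symm ht2)⟩
    exact ZMod.neg_one_ne_one h00
  obtain ⟨x, hx⟩ := hf (-1)
  refine hne (eq_one_of_eq_inv ?_ ?_)
  · exact (hH.of_dvd_nat ((orderOf_dvd_natCard x).trans (card_subgroup_dvd_card K₀))).of_dvd_nat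
      (hx ▸ orderOf_map_dvd f x)
  · symm; apply inv_eq_of_mul_eq_one_right; simp

/-- The normal `ZJ`-subgroup of a pure member. -/
theorem pure_normal {J : Subgroup G} (hJ : AKMax A θ J) {t : ℕ} [Fact t.Prime]
    (hpure : ∀ q, InS q J → q = t) (P : Sylow t J) :
    J ≤ normalizer (CfsgLib.PLocal.maxCenter 0 ((P : Subgroup J).map J.subtype) : Set G) ∧
      CfsgLib.PLocal.maxCenter 0 ((P : Subgroup J).map J.subtype) ≠ ⊥ := by
  have S := M.toSetup
  haveI := hJ.mem.1
  have ht : InS t J := by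
    obtain ⟨q, hq⟩ := M.exists_inS hJ
    rwa [hpure q hq] at hq
  have hF : fittingSubgroup J = pCore t J := by
    rw [fittingSubgroup_eq_iSup_pCore]
    refine le_antisymm (iSup_le fun q => ?_)
      (le_iSup_of_le ⟨t, Fact.out⟩ le_rfl)
    by_cases h : Oc (q : ℕ) J = ⊥
    · rw [(map_eq_bot_iff_of_injective _ J.subtype_injective).1 h]; exact bot_le
    · rw [hpure q ⟨q.2, h⟩]
  have hc : centralizer (pCore t J : Set J) ≤ pCore t J := hF ▸ centralizer_fittingSubgroup_le
  have hne2 : t ≠ 2 := S.prime_ne_two hJ.mem ht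
  have hst : CfsgLib.PLocal.QuadStable t J := CfsgLib.Transfer.quadStable_of_not_involvesSL2 hne2
    (not_involvesSL2_of_odd Fact.out hne2 (S.mem_odd hJ.mem))
  haveI := CfsgLib.PLocal.maxCenter_characteristic (e := 0) hne2 (Or.inr rfl) hc hst P
  rw [← CfsgLib.PLocal.map_maxCenter J.subtype_injective]
  refine ⟨le_normalizer.trans (normalizer_le_normalizer_map_subtype J _), ?_⟩
  rw [ne_eq, map_eq_bot_iff_of_injective _ J.subtype_injective]
  have hP : (P : Subgroup J) ≠ ⊥ := fun e => ht.2 (by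
    rw [Oc, coreOf, le_bot_iff.1 ((pCore_le_sylow P).trans e.le), Subgroup.map_bot])
  haveI : Nontrivial ↥(P : Subgroup J) := (nontrivial_iff_ne_bot _).2 hP
  haveI := P.isPGroup'.center_nontrivial
  obtain ⟨z, hz⟩ := exists_ne (1 : center ↥(P : Subgroup J))
  intro e
  refine hz (Subtype.ext (Subtype.ext ?_))
  have hzm : ((z : ↥(P : Subgroup J)) : J) ∈ CfsgLib.PLocal.maxCenter 0 (P : Subgroup J) :=
    CfsgLib.PLocal.mem_maxCenter (z : ↥(P : Subgroup J)).2 (pow_zero _) fun B hB b hb =>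
      congrArg Subtype.val (mem_center_iff.1 z.2 ⟨b, hB.1 hb⟩)
  rw [e, Subgroup.mem_bot] at hzm
  exact hzm

/-- Pure maximal members of the same prime coincide. -/
theorem pure_eq {J H : Subgroup G} (hJ : AKMax A θ J) (hH : AKMax A θ H) {t : ℕ}
    (hJp : ∀ q, InS q J → q = t) (hHp : ∀ q, InS q H → q = t) : J = H := by
  have S := M.toSetup
  obtain ⟨q, hq⟩ := M.exists_inS hJ
  have ht : t.Prime := hJp q hq ▸ hq.1
  haveI := Fact.mk ht
  have hmax : ∀ {H : Subgroup G}, AKMax A θ H → (∀ q, InS q H → q = t) → ∀ P : Sylow t H,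
      A ≤ normalizer ((P : Subgroup H).map H.subtype : Set G) →
      MaxP A θ t ((P : Subgroup H).map H.subtype) := by
    intro H hH hHp P hAP
    set V := (P : Subgroup H).map H.subtype with hV
    obtain ⟨hn, hne⟩ := M.pure_normal hH hHp P
    set X := CfsgLib.PLocal.maxCenter 0 V
    have hVX : normalizer (V : Set G) ≤ normalizer (X : Set G) :=
      CfsgLib.PLocal.maxCenter_le_normalizer V
    refine ⟨S.mem_of_le hH.mem (map_subtype_le _) hAP, P.isPGroup'.map _, fun R hR hRt hle => ?_⟩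
    have hown : Owns A θ X H := M.owns_of_normal hH
      ((CfsgLib.PLocal.maxCenter_le 0 V).trans (map_subtype_le _)) hne hn (hAP.trans hVX)
    have hRN : R ⊓ normalizer (V : Set G) ≤ V := by
      have h1 : R ⊓ normalizer (V : Set G) ≤ H := hown _
        (S.mem_of_le hR inf_le_left (S.norm_inf (S.mem_norm hR) (hAP.trans le_normalizer)))
        (inf_le_right.trans hVX)
      intro x hx
      have := P.is_maximal' (Q := (R ⊓ normalizer (V : Set G)).subgroupOf H)
        (hRt.to_le inf_le_left).comap_subtype fun y hy => by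
          exact mem_inf.2 ⟨hle ⟨y, hy, rfl⟩, le_normalizer ⟨y, hy, rfl⟩⟩
      exact ⟨⟨x, h1 hx⟩, this ▸ hx, rfl⟩
    by_contra hne'
    haveI := hRt.isNilpotent
    have hlt : V.subgroupOf R < ⊤ := lt_top_iff_ne_top.mpr fun h =>
      hne' (le_antisymm (subgroupOf_eq_top.mp h) hle)
    obtain ⟨y, hy, hyV⟩ := SetLike.exists_of_lt (Group.normalizerCondition_of_isNilpotent _ hlt)
    rw [← subgroupOf_normalizer_eq hle, mem_subgroupOf] at hy
    exact hyV (mem_subgroupOf.2 (hRN (mem_inf.2 ⟨y.2, hy⟩)))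
  haveI : Fact (Nat.Prime 2) := ⟨Nat.prime_two⟩
  obtain ⟨P, hP⟩ := CfsgLib.Coprime.exists_invariant_sylow (p := t) (S.mem_norm hJ.mem)
    (S.coprime (S.mem_odd hJ.mem)) (Or.inr hJ.mem.1)
  obtain ⟨P', hP'⟩ := CfsgLib.Coprime.exists_invariant_sylow (p := t) (S.mem_norm hH.mem)
    (S.coprime (S.mem_odd hH.mem)) (Or.inr hH.mem.1)
  obtain ⟨k, hk, hkP⟩ := S.maxP_conj (hmax hJ hJp P hP) _ (hmax hH hHp P' hP')
  set k' : J := ⟨k, hJ.K_le hk⟩
  have hmap : ((k' • P : Sylow t J) : Subgroup J).map J.subtype = (P' : Subgroup H).map H.subtype := by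
    rw [← hkP, Sylow.coe_subgroup_smul, ← map_conj_eq_smul, Subgroup.map_map, Subgroup.map_map]
    rfl
  obtain ⟨hn, hne⟩ := M.pure_normal hJ hJp (k' • P)
  obtain ⟨hn', -⟩ := M.pure_normal hH hHp P'
  rw [hmap] at hn hne
  refine hH.max J hJ.mem (M.owns_of_normal hJ ?_ hne hn ?_ H hH.mem hn')
  · rw [← hmap]
    exact (CfsgLib.PLocal.maxCenter_le 0 _).trans (map_subtype_le _)
  · exact hP'.trans (CfsgLib.PLocal.maxCenter_le_normalizer _)

/-- `F(J) ≤ H` and `σ(H) ⊆ σ(J)` imply `J = H`. -/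
theorem eq_of_fit {J H : Subgroup G} (hJ : AKMax A θ J) (hH : AKMax A θ H)
    (h1 : ∀ q, q.Prime → Oc q J ≤ H) (hsub : ∀ q, InS q H → InS q J) : J = H := by
  by_cases htwo : Two J
  · exact M.bender_A hJ hH h1 hsub htwo
  obtain ⟨t, ht⟩ := M.exists_inS hJ
  have hp : ∀ q, InS q J → q = t := fun q hq => by
    by_contra hne; exact htwo ⟨q, t, hne, hq, ht⟩
  exact M.pure_eq hJ hH hp fun q hq => hp q (hsub q hq)

/-- `Z(F(H)) ≤ J` and `σ(J) ⊆ σ(H)` imply `J = H`. -/
theorem eq_of_Zc {J H : Subgroup G} (hJ : AKMax A θ J) (hH : AKMax A θ H)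
    (h1 : ∀ q, q.Prime → Zc q H ≤ J) (hsub : ∀ q, InS q J → InS q H) : J = H := by
  by_cases htwo : Two H
  · exact M.bender_A' hJ hH h1 hsub htwo
  obtain ⟨t, ht⟩ := M.exists_inS hH
  have hp : ∀ q, InS q H → q = t := fun q hq => by
    by_contra hne; exact htwo ⟨q, t, hne, hq, ht⟩
  exact M.pure_eq hJ hH (fun q hq => hp q (hsub q hq)) hp

end Min

/-- An element inverted by the involution `c` centralising `C_R(c)` centralises the nilpotent `R`. -/
theorem le_centralizer_of_inverted {Γ : Type u} [Group Γ] [Finite Γ] {c x : Γ} (hc : c * c = 1)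
    (hinv : c * x * c⁻¹ = x⁻¹) (hxo : Odd (orderOf x)) :
    ∀ R : Subgroup Γ, Odd (Nat.card R) → Group.IsNilpotent R → c ∈ normalizer (R : Set Γ) →
      x ∈ normalizer (R : Set Γ) → (orderOf x).Coprime (Nat.card R) →
      R ⊓ centralizer ({c} : Set Γ) ≤ centralizer ({x} : Set Γ) →
      R ≤ centralizer ({x} : Set Γ) := by
  intro R
  induction R using WellFoundedLT.induction with
  | _ R ih =>
  intro hR hnil hcR hxR hcop hfix
  by_cases hRb : R = ⊥
  · rw [hRb]; exact bot_le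
  set D := ⁅R, R⁆ with hD
  have hDR : D ≤ R := commutator_le_self R
  have hlt : D < R := by
    haveI : Nontrivial R := (nontrivial_iff_ne_bot _).2 hRb
    haveI : Group.IsSolvable R := by haveI := hnil; infer_instance
    refine lt_of_le_of_ne hDR fun e => (Group.IsSolvable.commutator_lt_top_of_nontrivial R).ne ?_
    apply map_injective R.subtype_injective
    rw [commutator_def, map_commutator, ← MonoidHom.range_eq_map, range_subtype]
    exact e
  have hnD : ∀ g, g ∈ normalizer (R : Set Γ) → g ∈ normalizer (D : Set Γ) := fun g hg => by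
    rw [← map_conj_eq_self_iff, hD, map_commutator, map_conj_eq_self_iff.2 hg]
  have hDc : D ≤ centralizer ({x} : Set Γ) := ih D hlt (card_odd_of_le hDR hR)
    (CfsgLib.Base.isNilpotent_of_le hDR hnil) (hnD c hcR) (hnD x hxR)
    (hcop.coprime_dvd_right (card_dvd_of_le hDR)) ((inf_le_inf_right _ hDR).trans hfix)
  have key : invGen R c ≤ centralizer ({x} : Set Γ) := by
    refine invGen_le_iff.2 fun w hw hwinv => ?_
    set α := x * w * x⁻¹ with hα
    set β := x⁻¹ * w * x with hβ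
    have hαR : α ∈ R := (mem_normalizer_iff.1 hxR w).1 hw
    have hβR : β ∈ R := by
      simpa [hβ] using (mem_normalizer_iff.1 (inv_mem hxR) w).1 hw
    set v := α * β⁻¹ with hv
    have hcv : c * v * c⁻¹ = β⁻¹ * α := by
      have e1 : c * α * c⁻¹ = β⁻¹ := by
        calc c * α * c⁻¹ = (c * x * c⁻¹) * (c * w * c⁻¹) * (c * x * c⁻¹)⁻¹ := by rw [hα]; group
          _ = _ := by rw [hinv, hwinv, hβ]; group
      have e2 : c * β * c⁻¹ = α⁻¹ := by
        calc c * β * c⁻¹ = (c * x * c⁻¹)⁻¹ * (c * w * c⁻¹) * (c * x * c⁻¹) := by rw [hβ]; group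
          _ = _ := by rw [hinv, hwinv, hα]; group
      calc c * v * c⁻¹ = (c * α * c⁻¹) * (c * β * c⁻¹)⁻¹ := by rw [hv]; group
        _ = _ := by rw [e1, e2]; group
    have hzc : ∀ g ∈ zpowers c, g = 1 ∨ g = c := by
      intro g hg
      obtain ⟨k, rfl⟩ := mem_zpowers_iff.1 hg
      have h2 : c ^ (2 : ℤ) = 1 := by rw [zpow_two, hc]
      rcases Int.even_or_odd' k with ⟨j, rfl | rfl⟩
      · left; rw [zpow_mul, h2, one_zpow]
      · right; rw [zpow_add, zpow_mul, h2, one_zpow, one_mul, zpow_one]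
    have hzn : zpowers c ≤ normalizer (D : Set Γ) := zpowers_le.2 (hnD c hcR)
    have hcopc : (Nat.card (zpowers c)).Coprime (Nat.card D) := by
      rw [Nat.card_zpowers]
      exact Nat.Coprime.coprime_dvd_left (orderOf_dvd_of_pow_eq_one (by rw [sq, hc]))
        (Nat.coprime_two_left.2 (card_odd_of_le hDR hR))
    obtain ⟨e, he, hve⟩ := CfsgLib.Coprime.exists_centralizing_in_coset hzn hcopc
      (Or.inl inferInstance) (k := v) fun g hg => by
        rcases hzc g hg with rfl | rfl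
        · simp
        · rw [hcv, show v⁻¹ * (β⁻¹ * α) = ⁅β, α⁻¹⁆ by rw [hv, commutatorElement_def]; group]
          exact commutator_mem_commutator hβR (inv_mem hαR)
    have heR : e ∈ R := by
      have : v * (v⁻¹ * e) ∈ R := mul_mem (mul_mem hαR (inv_mem hβR)) (hDR hve)
      simpa using this
    have hex : e ∈ centralizer ({x} : Set Γ) := hfix (mem_inf.2 ⟨heR,
      mem_centralizer_singleton_iff.2 (mem_centralizer_iff.1 he c (mem_zpowers c)).symm⟩)
    have hvx : Commute v x := by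
      have : v = e * (v⁻¹ * e)⁻¹ := by group
      rw [this]
      exact Commute.mul_left (mem_centralizer_singleton_iff.1 hex)
        (mem_centralizer_singleton_iff.1 (inv_mem (hDc hve)))
    set h := x ^ 2 with hh
    have hstep : h * w * h⁻¹ = v * w := by
      calc h * w * h⁻¹ = (x * v * x⁻¹) * w := by rw [hv, hα, hβ, hh, sq]; group
        _ = _ := by rw [← hvx.eq]; group
    have hvh : Commute h v := (hvx.pow_right 2).symm
    have hpow : ∀ n : ℕ, h ^ n * w * (h ^ n)⁻¹ = v ^ n * w := by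
      intro n
      induction n with
      | zero => simp
      | succ n ihn =>
        calc h ^ (n + 1) * w * (h ^ (n + 1))⁻¹ = h * (h ^ n * w * (h ^ n)⁻¹) * h⁻¹ := by
              rw [pow_succ']; group
          _ = h * (v ^ n * w) * h⁻¹ := by rw [ihn]
          _ = (h * v ^ n * h⁻¹) * (h * w * h⁻¹) := by group
          _ = v ^ (n + 1) * w := by rw [(hvh.pow_right n).eq, hstep, pow_succ]; group
    have hv1 : v = 1 := by
      have h1 := hpow (orderOf h)
      rw [pow_orderOf_eq_one, one_mul, inv_one, mul_one] at h1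
      have hvn : v ^ orderOf h = 1 := mul_eq_right.1 h1.symm
      have hd1 : orderOf v ∣ orderOf h := orderOf_dvd_of_pow_eq_one hvn
      have hd2 : orderOf v ∣ Nat.card R :=
        orderOf_coe (⟨v, mul_mem hαR (inv_mem hβR)⟩ : R) ▸ orderOf_dvd_natCard _
      exact orderOf_eq_one_iff.1 (Nat.eq_one_of_dvd_coprimes hcop (hd1.trans (orderOf_pow_dvd 2)) hd2)
    have hwh : h ∈ centralizer ({w} : Set Γ) := by
      rw [mem_centralizer_singleton_iff, ← mul_inv_eq_iff_eq_mul, hstep, hv1, one_mul]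
    exact mem_centralizer_singleton_iff.2
      (mem_centralizer_singleton_iff.1 (mem_of_sq_mem hxo hwh)).symm
  calc R = (R ⊓ centralizer ({c} : Set Γ)) ⊔ invGen R c := (sup_invGen hR hc hcR).symm
    _ ≤ _ := sup_le hfix key

namespace Setup

variable (S : Setup A θ)
include S

/-- Inverted elements of an invariant `t`-subgroup lie in `O_t`. -/
theorem star {H T : Subgroup G} (hH : Mem A θ H) {c : G} (hc : c ∈ A) {t : ℕ} [Fact t.Prime]
    (hT : IsPGroup t T) (hn : H ⊓ centralizer ({c} : Set G) ≤ normalizer (T : Set G)) :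
    invGen (T ⊓ H) c ≤ Oc t H := by
  refine invGen_le_iff.2 fun x hx hinv => ?_
  set N := Oc t H with hN
  set G1 := normalizer (N : Set G) with hG1
  have hHG : H ≤ G1 := Oc_norm t H
  have hAG : A ≤ G1 := S.Oc_norm_A hH t
  haveI : (N.subgroupOf G1).Normal := normal_subgroupOf_of_le_normalizer le_rfl
  set f := QuotientGroup.mk' (N.subgroupOf G1) with hf
  set H1 := H.subgroupOf G1 with hH1
  set Hb := H1.map f with hHb
  set R := fitOf Hb with hR
  set c1 : G1 := ⟨c, hAG hc⟩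
  set x1 : G1 := ⟨x, hHG hx.2⟩
  have hodd1 : Odd (Nat.card H1) := by rw [hH1, card_subgroupOf hHG]; exact S.mem_odd hH
  have hHodd : Odd (Nat.card Hb) := hodd1.of_dvd_nat (CfsgLib.Base.card_map_dvd f _)
  have hcH : f c1 ∈ normalizer (Hb : Set _) := by
    refine le_normalizer_map f (mem_map_of_mem f ?_)
    exact subgroupOf_le_normalizer (X := A) G1 (S.mem_norm hH) (show c1 ∈ A.subgroupOf G1 from hc)
  have hker : IsPGroup t (N.subgroupOf G1) := (Oc_isPGroup t H).comap_subtype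
  -- `O_t(H/N) = 1`
  have hOb : Oc t Hb = ⊥ := by
    have hle : N.subgroupOf G1 ≤ H1 := comap_mono (Oc_le t H)
    set P := (Oc t Hb).comap f with hP
    have hPH : P ≤ H1 := by
      refine (comap_mono (Oc_le t Hb)).trans ?_
      rw [hHb, comap_map_mk', sup_eq_left.2 hle]
    have hPp : IsPGroup t P := (Oc_isPGroup t Hb).comap_of_ker_isPGroup f (by
      rw [hf, QuotientGroup.ker_mk']; exact hker)
    have hPn : H1 ≤ normalizer (P : Set G1) := by
      refine le_normalizer_of_conj_mem fun g hg y hy => ?_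
      show f (g * y * g⁻¹) ∈ Oc t Hb
      rw [map_mul, map_mul, map_inv]
      exact (mem_normalizer_iff.1 (Oc_norm t Hb (mem_map_of_mem f hg)) (f y)).1 hy
    have hPN : P.map G1.subtype ≤ N := by
      refine le_map_pCore ?_ ?_ (hPp.map _)
      · rintro _ ⟨y, hy, rfl⟩; exact hPH hy
      · refine le_normalizer_of_conj_mem fun g hg y hy => ?_
        obtain ⟨z, hz, rfl⟩ := hy
        exact ⟨⟨g, hHG hg⟩ * z * ⟨g, hHG hg⟩⁻¹,
          (mem_normalizer_iff.1 (hPn (show (⟨g, hHG hg⟩ : G1) ∈ H1 from hg)) z).1 hz, rfl⟩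
    rw [eq_bot_iff]
    intro q hq
    obtain ⟨g, rfl⟩ := QuotientGroup.mk'_surjective _ q
    exact Subgroup.mem_bot.2 ((QuotientGroup.eq_one_iff g).2
      (mem_subgroupOf.2 (hPN ⟨g, hq, rfl⟩)))
  haveI : Group.IsSolvable Hb := CfsgLib.FT.isSolvable_of_odd hHodd
  have hRt : (Nat.card R).Coprime t := by
    refine (Nat.Prime.coprime_iff_not_dvd Fact.out).2 (fun hd => ?_) |>.symm
    haveI hnil : Group.IsNilpotent R := isNilpotent_map_fittingSubgroup Hb
    obtain ⟨P⟩ : Nonempty (Sylow t R) := inferInstance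
    have h1 : (P : Subgroup R).map R.subtype ≤ Oc t Hb :=
      pgroup_le_Oc_of_le_fit Fact.out (P.isPGroup'.map _) (map_subtype_le _)
    rw [hOb, le_bot_iff, map_eq_bot_iff_of_injective _ R.subtype_injective] at h1
    exact P.not_dvd_index (by rwa [h1, Subgroup.index_bot])
  have hxo : Odd (orderOf x1) := by
    rw [← orderOf_coe]; exact odd_orderOf (S.mem_odd hH) hx.2
  have hcx : c1 * x1 * c1⁻¹ = x1⁻¹ := Subtype.ext hinv
  have hcR : f c1 ∈ normalizer (R : Set _) := normalizer_le_normalizer_map_subtype Hb _ hcH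
  have hxHb : f x1 ∈ Hb := mem_map_of_mem f hx.2
  have hxR : f x1 ∈ normalizer (R : Set _) :=
    normalizer_le_normalizer_map_subtype Hb _ (le_normalizer hxHb)
  have hRodd : Odd (Nat.card R) := card_odd_of_le (map_subtype_le _) hHodd
  have hkey : R ≤ centralizer ({f x1} : Set _) := by
    refine le_centralizer_of_inverted (c := f c1) (x := f x1)
      (by rw [← map_mul, show c1 * c1 = 1 from Subtype.ext (S.sq hc), map_one])
      (by rw [← map_inv, ← map_mul, ← map_mul, hcx, map_inv]) (hxo.of_dvd_nat (orderOf_map_dvd f x1)) R hRodd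
      (isNilpotent_map_fittingSubgroup Hb) hcR hxR ?_ ?_
    · obtain ⟨k, hk⟩ := hT ⟨x, hx.1⟩
      obtain ⟨j, -, hj⟩ := (Nat.dvd_prime_pow Fact.out).1 (orderOf_dvd_of_pow_eq_one
        (show x1 ^ t ^ k = 1 from Subtype.ext (congrArg Subtype.val hk : x ^ t ^ k = 1)))
      refine Nat.Coprime.coprime_dvd_left (orderOf_map_dvd f x1) ?_
      rw [hj]
      exact hRt.symm.pow_left j
    · intro q hq
      obtain ⟨hqR, hqc⟩ := mem_inf.1 hq
      obtain ⟨g, hg, rfl⟩ := (map_subtype_le _ : R ≤ Hb) hqR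
      set M := R.comap f ⊓ H1 with hM
      have hgM : g ∈ M := mem_inf.2 ⟨hqR, hg⟩
      have hfix : ∀ a ∈ zpowers c1, g⁻¹ * (a * g * a⁻¹) ∈ N.subgroupOf G1 := by
        intro a ha
        obtain ⟨k, rfl⟩ := mem_zpowers_iff.1 ha
        rw [← QuotientGroup.eq_one_iff]
        show f (g⁻¹ * (c1 ^ k * g * (c1 ^ k)⁻¹)) = 1
        have hcom : Commute (f c1) (f g) := (mem_centralizer_singleton_iff.1 hqc).symm
        rw [map_mul, map_mul, map_mul, map_inv, map_inv, map_zpow, (hcom.zpow_left k).eq,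
          mul_inv_cancel_right, inv_mul_cancel]
      have hcopc : (Nat.card (zpowers c1)).Coprime (Nat.card (N.subgroupOf G1)) := by
        rw [Nat.card_zpowers, card_subgroupOf le_normalizer, ← orderOf_coe]
        exact Nat.Coprime.coprime_dvd_left (orderOf_dvd_of_pow_eq_one (S.elem.2 c hc))
          (Nat.coprime_two_left.2 (card_odd_of_le (Oc_le t H) (S.mem_odd hH)))
      obtain ⟨m, hm, hgm⟩ := CfsgLib.Coprime.exists_centralizing_in_coset
        (le_normalizer_of_normal (H := N.subgroupOf G1)) hcopc (Or.inl inferInstance) hfix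
      have hfm : f m = f g := ((QuotientGroup.eq (s := N.subgroupOf G1)).2 hgm).symm
      have hmH : (m : G) ∈ H := by
        have h2 : ((g⁻¹ * m : G1) : G) ∈ H := Oc_le t H (mem_subgroupOf.1 hgm)
        simpa using mul_mem (mem_subgroupOf.1 hg) h2
      have hmC : (m : G) ∈ centralizer ({c} : Set G) := mem_centralizer_singleton_iff.2
        (congrArg Subtype.val (mem_centralizer_iff.1 hm c1 (mem_zpowers c1)).symm)
      have hmT : (m : G) ∈ normalizer (T : Set G) := hn (mem_inf.2 ⟨hmH, hmC⟩)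
      -- the commutator
      have hd : ⁅x1, m⁆ ∈ M ⊓ T.subgroupOf G1 := by
        refine mem_inf.2 ⟨mem_inf.2 ⟨?_, ?_⟩, ?_⟩
        · show f ⁅x1, m⁆ ∈ R
          rw [map_commutatorElement, hfm, show ⁅f x1, f g⁆ = (f x1 * f g * (f x1)⁻¹) * (f g)⁻¹ by
            rw [commutatorElement_def]]
          exact mul_mem ((mem_normalizer_iff.1 hxR _).1 hqR) (inv_mem hqR)
        · exact mem_subgroupOf.2 (by
            rw [commutatorElement_def]
            exact mul_mem (mul_mem (mul_mem hx.2 hmH) (inv_mem hx.2)) (inv_mem hmH))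
        · exact mem_subgroupOf.2 (by
            rw [show ((⁅x1, m⁆ : G1) : G) = x * ((m : G) * x⁻¹ * (m : G)⁻¹) by
              simp [commutatorElement_def, x1, mul_assoc]]
            exact mul_mem hx.1 ((mem_normalizer_iff.1 hmT _).1 (inv_mem hx.1)))
      have hbot : f ⁅x1, m⁆ ∈ (M ⊓ T.subgroupOf G1).map f := mem_map_of_mem f hd
      have hp : IsPGroup t ↥((M ⊓ T.subgroupOf G1).map f) :=
        ((hT.comap_subtype (K := G1)).to_le inf_le_right).map f
      have : (M ⊓ T.subgroupOf G1).map f ≤ ⊥ := by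
        rw [← inf_eq_bot_of_isPGroup_of_coprime hp hRt]
        exact le_inf le_rfl (map_le_iff_le_comap.2 (inf_le_left.trans inf_le_left))
      have h1 := Subgroup.mem_bot.1 (this hbot)
      rw [map_commutatorElement, hfm, commutatorElement_eq_one_iff_mul_comm] at h1
      exact mem_centralizer_singleton_iff.2 h1.symm
  -- `x` centralises `F(H/N)`
  have hcF : f x1 ∈ R := mem_fit_of_centralizes inferInstance hxHb fun q hq =>
    mem_centralizer_iff.2 fun y hy => mem_centralizer_singleton_iff.1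
      (hkey (haveI := Fact.mk hq; coreOf_le_fitOf Hb hy))
  have hxp : IsPGroup t (zpowers (f x1)) := by
    intro g
    obtain ⟨k, hk⟩ := hT ⟨x, hx.1⟩
    refine ⟨k, Subtype.ext ?_⟩
    obtain ⟨j, hj⟩ := mem_zpowers_iff.1 g.2
    rw [SubmonoidClass.coe_pow, ← hj, OneMemClass.coe_one, ← zpow_natCast, ← zpow_mul, mul_comm,
      zpow_mul, zpow_natCast, ← map_pow,
      show x1 ^ t ^ k = 1 from Subtype.ext (congrArg Subtype.val hk : x ^ t ^ k = 1), map_one,
      one_zpow]
  have h1 : f x1 ∈ R ⊓ zpowers (f x1) := mem_inf.2 ⟨hcF, mem_zpowers _⟩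
  rw [inf_comm, inf_eq_bot_of_isPGroup_of_coprime hxp hRt, Subgroup.mem_bot] at h1
  exact mem_subgroupOf.1 ((QuotientGroup.eq_one_iff x1).1 h1)

end Setup

end CfsgLib.Signalizer2
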