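import Mathlib
import Cfsg.Agent.Lib.Signalizer2.Bender

/-!
# Moved and fixed points of `A`
-/

set_option autoImplicit false
set_option linter.style.haveILetI false
set_option linter.unusedSectionVars false

open scoped Pointwise commutatorElement

namespace CfsgLib.Signalizer2

open Cfsg Subgroup CfsgLib.Base CfsgLib.Signalizer CfsgLib.Components

universe u

variable {G : Type u} [Group G] [Finite G] {A : Subgroup G} {θ : G → Subgroup G}

/-- The largest `θ c`-invariant subgroup of `P_q`. -/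
def thetaCore (A : Subgroup G) (θ : G → Subgroup G) (q : ℕ) (c : G) : Subgroup G :=
  sSup {U | U ≤ Pq A θ q ∧ θ c ≤ normalizer (U : Set G) ∧ A ≤ normalizer (U : Set G)}

/-- The part of `thetaCore` moved by `c`. -/
def Wsub (A : Subgroup G) (θ : G → Subgroup G) (q : ℕ) (c : G) : Subgroup G :=
  invGen (thetaCore A θ q c) c

/-- `c` fixes all its `θ c`-invariant members. -/
def Semi (A : Subgroup G) (θ : G → Subgroup G) (c : G) : Prop :=
  ∀ q : ℕ, q.Prime → Wsub A θ q c = ⊥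

/-- `J` owns the pair `(c, t)`. -/
structure Own (A : Subgroup G) (θ : G → Subgroup G) (t : ℕ) (c : G) (J : Subgroup G) : Prop where
  pt : Pt A c
  prime : t.Prime
  ne : Wsub A θ t c ≠ ⊥
  ak : AKMax A θ J
  owns : Owns A θ (Wsub A θ t c) J

/-- The part of `Wsub` on the line through `a` and `b`. -/
def Bl (A : Subgroup G) (θ : G → Subgroup G) (t : ℕ) (c a b : G) : Subgroup G :=
  invGen (Wsub A θ t c ⊓ (centralizer ({a} : Set G) ⊓ centralizer ({b} : Set G))) c

/-- At least three primes divide the values of the functor. -/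
def Three (A : Subgroup G) (θ : G → Subgroup G) : Prop :=
  ∀ x y : ℕ, ∃ z, InPi A θ z ∧ z ≠ x ∧ z ≠ y

theorem not_dvd_of_isPGroup {q x : ℕ} (hq : q.Prime) (hx : x.Prime) (hne : q ≠ x) {U : Subgroup G}
    (hU : IsPGroup q U) : ¬ x ∣ Nat.card U :=
  hx.coprime_iff_not_dvd.1 (coprime_of_primes hq hx hne hU).symm

theorem mul_ne_left {a b : G} (hb : b ≠ 1) : a * b ≠ a := fun e => hb (mul_eq_left.1 e)

theorem mul_ne_right {a b : G} (ha : a ≠ 1) : a * b ≠ b := fun e => ha (mul_eq_right.1 e)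

namespace Setup

variable (S : Setup A θ)
include S

theorem indep_swap {a b c : G} (h : Indep A a b c) : Indep A b a c :=
  ⟨h.2.1, h.1, h.2.2.1, h.2.2.2.1.symm, h.2.2.2.2.2.1, h.2.2.2.2.1, by
    rw [S.comm h.2.1.1 h.1.1]; exact h.2.2.2.2.2.2⟩

theorem indep_mul {a b c : G} (h : Indep A a b c) : Indep A a (a * b) c :=
  ⟨h.1, S.mul_mem_pt h.1 h.2.1 h.2.2.2.1, h.2.2.1, (mul_ne_left h.2.1.2).symm, h.2.2.2.2.1,
    h.2.2.2.2.2.2.symm, fun e => h.2.2.2.2.2.1 (by rw [e, ← mul_assoc, S.sq h.1.1, one_mul])⟩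

theorem indep_mul_c {a b c : G} (h : Indep A a b c) : Indep A a (b * c) c :=
  ⟨h.1, S.mul_mem_pt h.2.1 h.2.2.1 h.2.2.2.2.2.1, h.2.2.1,
    fun e => h.2.2.2.2.2.2 (by
      rw [e, S.comm (mul_mem h.2.1.1 h.2.2.1.1) h.2.1.1, ← mul_assoc, S.sq h.2.1.1, one_mul]),
    h.2.2.2.2.1, mul_ne_right h.2.1.2, fun e => h.2.2.2.1 (by
      have h1 : c = a * b * c := by rw [mul_assoc]; exact e
      have h2 : a * b = 1 := mul_eq_right.1 h1.symm
      rw [eq_inv_of_mul_eq_one_left h2, S.inv_eq h.2.1.1])⟩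

theorem C_inf_eq {a b : G} (ha : a ∈ A) :
    centralizer ({a} : Set G) ⊓ centralizer ({a * b} : Set G) =
      centralizer ({a} : Set G) ⊓ centralizer ({b} : Set G) := by
  ext x
  simp only [mem_inf, mem_centralizer_singleton_iff]
  refine and_congr_right fun h1 => ⟨fun h2 => ?_, fun h2 => ?_⟩
  · have e : b = a * (a * b) := by rw [← mul_assoc, S.sq ha, one_mul]
    rw [e]
    exact (show Commute x a from h1).mul_right h2
  · exact (show Commute x a from h1).mul_right h2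

variable {q : ℕ} {c : G}

theorem thetaCore_le : thetaCore A θ q c ≤ Pq A θ q := sSup_le fun _ h => h.1

theorem thetaCore_norm_theta : θ c ≤ normalizer (thetaCore A θ q c : Set G) :=
  le_normalizer_sSup fun _ h => h.2.1

theorem thetaCore_norm_A : A ≤ normalizer (thetaCore A θ q c : Set G) :=
  le_normalizer_sSup fun _ h => h.2.2

theorem thetaCore_odd : Odd (Nat.card (thetaCore A θ q c)) :=
  card_odd_of_le S.thetaCore_le (S.mem_odd S.Pq_mem)

theorem Wsub_le : Wsub A θ q c ≤ thetaCore A θ q c := invGen_le _ _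

theorem Wsub_isPGroup : IsPGroup q (Wsub A θ q c) :=
  S.Pq_isPGroup.to_le (S.Wsub_le.trans S.thetaCore_le)

theorem Wsub_norm_theta (hc : Pt A c) : θ c ≤ normalizer (Wsub A θ q c : Set G) :=
  le_normalizer_invGen_of_commute S.thetaCore_norm_theta (S.theta_le hc)

theorem Wsub_norm_A (hc : Pt A c) : A ≤ normalizer (Wsub A θ q c : Set G) :=
  le_normalizer_invGen_of_commute S.thetaCore_norm_A (S.le_centralizer hc.1)

theorem Wsub_norm_K (hc : Pt A c) : core0 A θ ≤ normalizer (Wsub A θ q c : Set G) :=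
  (S.core0_le hc).trans (S.Wsub_norm_theta hc)

theorem Wsub_mem (hc : Pt A c) : Mem A θ (Wsub A θ q c) :=
  S.mem_of_le S.Pq_mem (S.Wsub_le.trans S.thetaCore_le) (S.Wsub_norm_A hc)

theorem invGen_le_Wsub [Fact q.Prime] (hc : Pt A c) {U : Subgroup G} (hU : Mem A θ U)
    (hq : IsPGroup q U) (hn : θ c ≤ normalizer (U : Set G)) : invGen U c ≤ Wsub A θ q c :=
  invGen_mono (le_sSup (show U ∈ {V | V ≤ Pq A θ q ∧ θ c ≤ normalizer (V : Set G) ∧
      A ≤ normalizer (V : Set G)} from ⟨S.le_Pq hU hq ((S.core0_le hc).trans hn), hn, S.mem_norm hU⟩)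
    : U ≤ thetaCore A θ q c) c

/-- Inverted parts of `Wsub` lie in `O_t` of every member containing them. -/
theorem invGen_part_le_Oc [Fact q.Prime] (hc : Pt A c) {H U : Subgroup G} (hH : Mem A θ H)
    (hU : U ≤ Wsub A θ q c) (hUH : U ≤ H) : invGen U c ≤ Oc q H :=
  (invGen_mono (le_inf hU hUH) c).trans (S.star hH hc.1 S.Wsub_isPGroup
    ((S.mem_fix hH hc).trans (S.Wsub_norm_theta hc)))

theorem Wsub_le_Oc [Fact q.Prime] (hc : Pt A c) {H : Subgroup G} (hH : Mem A θ H)
    (hW : Wsub A θ q c ≤ H) : Wsub A θ q c ≤ Oc q H := by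
  have := S.invGen_part_le_Oc hc hH (U := Wsub A θ q c) le_rfl hW
  rwa [Wsub, invGen_idem] at this

variable {a b : G}

theorem Bl_le : Bl A θ q c a b ≤ Wsub A θ q c := (invGen_le _ _).trans inf_le_left

theorem Bl_le_C : Bl A θ q c a b ≤ centralizer ({a} : Set G) ⊓ centralizer ({b} : Set G) :=
  (invGen_le _ _).trans inf_le_right

theorem Bl_isPGroup : IsPGroup q (Bl A θ q c a b) := S.Wsub_isPGroup.to_le S.Bl_le

theorem Bl_norm_A (h : Indep A a b c) : A ≤ normalizer (Bl A θ q c a b : Set G) :=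
  le_normalizer_invGen_of_commute
    (S.norm_inf (S.Wsub_norm_A h.2.2.1) (S.norm_inf (S.norm_C h.1.1) (S.norm_C h.2.1.1)))
    (S.le_centralizer h.2.2.1.1)

theorem Bl_norm_K (h : Indep A a b c) : core0 A θ ≤ normalizer (Bl A θ q c a b : Set G) :=
  le_normalizer_invGen_of_commute
    ((le_inf (S.Wsub_norm_K h.2.2.1) ((le_inf ((S.core0_le_C h.1.1).trans le_normalizer)
      ((S.core0_le_C h.2.1.1).trans le_normalizer)).trans inf_normalizer_le_normalizer_inf)).trans
      inf_normalizer_le_normalizer_inf)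
    (S.core0_le_C h.2.2.1.1)

theorem Bl_mem (h : Indep A a b c) : Mem A θ (Bl A θ q c a b) :=
  S.mem_of_le (S.Wsub_mem h.2.2.1) S.Bl_le (S.Bl_norm_A h)

theorem Bl_swap : Bl A θ q c a b = Bl A θ q c b a := by rw [Bl, Bl, inf_comm (centralizer _)]

theorem Bl_mul (ha : a ∈ A) : Bl A θ q c a (a * b) = Bl A θ q c a b := by
  rw [Bl, Bl, S.C_inf_eq ha]

theorem Bl_le_theta (h : Indep A a b c) : Bl A θ q c a b ≤ θ a :=
  (le_inf le_rfl (S.Bl_le_C.trans inf_le_left)).trans (S.mem_fix (S.Bl_mem h) h.1)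

theorem Bl_le_theta' (h : Indep A a b c) : Bl A θ q c a b ≤ θ b := by
  rw [S.Bl_swap]; exact S.Bl_le_theta (S.indep_swap h)

theorem Bl_le_theta_mul (h : Indep A a b c) : Bl A θ q c a b ≤ θ (a * b) :=
  (le_inf (S.Bl_le_theta h) (S.Bl_le_theta' h)).trans (S.theta_inf_le h.1 h.2.1 h.2.2.2.1)

theorem Bl_le_Oc [Fact q.Prime] (h : Indep A a b c) {H : Subgroup G} (hH : Mem A θ H)
    (hB : Bl A θ q c a b ≤ H) : Bl A θ q c a b ≤ Oc q H := by
  have := S.invGen_part_le_Oc h.2.2.1 hH S.Bl_le hB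
  rwa [Bl, invGen_idem] at this

end Setup

/-- The pieces of `F(H)` away from `t`, and the centre of the `t`-piece, centralise subgroups of `O_t(H)`. -/
theorem Zc_le_centralizer {H B : Subgroup G} {t : ℕ} (ht : t.Prime) (hB : B ≤ Oc t H) {q : ℕ}
    (hq : q.Prime) : Zc q H ≤ centralizer (B : Set G) := by
  by_cases h : q = t
  · subst h
    exact inf_le_right.trans (centralizer_le hB)
  · exact ((Zc_le q H).trans (le_centralizer_of_normalize
      (inf_eq_bot_of_primes hq ht h (Oc_isPGroup q H) (Oc_isPGroup t H))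
      ((Oc_le q H).trans (Oc_norm t H)) ((Oc_le t H).trans (Oc_norm q H)))).trans (centralizer_le hB)

theorem Oc_le_centralizer {H B : Subgroup G} {t : ℕ} (ht : t.Prime) (hB : B ≤ Oc t H) {q : ℕ}
    (hq : q.Prime) (hqt : q ≠ t) : Oc q H ≤ centralizer (B : Set G) :=
  (le_centralizer_of_normalize (inf_eq_bot_of_primes hq ht hqt (Oc_isPGroup q H) (Oc_isPGroup t H))
    ((Oc_le q H).trans (Oc_norm t H)) ((Oc_le t H).trans (Oc_norm q H))).trans (centralizer_le hB)

theorem bot_le_centralizer {U V : Subgroup G} (h : V = ⊥) : U ≤ centralizer (V : Set G) := by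
  intro x _
  exact mem_centralizer_iff.2 fun y hy => by rw [h, SetLike.mem_coe, Subgroup.mem_bot] at hy; simp [hy]

namespace Min

variable (M : Min A θ)
include M

theorem exists_own {t : ℕ} (ht : t.Prime) {c : G} (hc : Pt A c) (hne : Wsub A θ t c ≠ ⊥) :
    ∃ J, Own A θ t c J := by
  obtain ⟨J, hJ, hJo⟩ := M.exists_owner (M.toSetup.Wsub_mem hc) hne (M.toSetup.Wsub_norm_K hc)
  exact ⟨J, hc, ht, hne, hJ, hJo⟩

theorem exists_own_of_not_semi {c : G} (hc : Pt A c) (h : ¬ Semi A θ c) :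
    ∃ t J, Own A θ t c J := by
  simp only [Semi, not_forall] at h
  obtain ⟨t, ht, hne⟩ := h
  exact ⟨t, M.exists_own ht hc hne⟩

section Own

variable {t : ℕ} {c : G} {J : Subgroup G} (o : Own A θ t c J)
include o

theorem own_theta_le : θ c ≤ J := o.owns _ (M.toSetup.theta_mem o.pt) (M.toSetup.Wsub_norm_theta o.pt)

theorem own_W_le : Wsub A θ t c ≤ J := o.owns _ (M.toSetup.Wsub_mem o.pt) le_normalizer

theorem own_W_le_Oc : Wsub A θ t c ≤ Oc t J :=
  haveI := Fact.mk o.prime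
  M.toSetup.Wsub_le_Oc o.pt o.ak.mem (M.own_W_le o)

theorem own_inS : InS t J := ⟨o.prime, fun e => o.ne (le_bot_iff.1 (e ▸ M.own_W_le_Oc o))⟩

theorem own_mem_le {U : Subgroup G} (hU : Mem A θ U) (h : U ≤ centralizer (Wsub A θ t c : Set G)) :
    U ≤ J := o.owns U hU (le_normalizer_of_le_centralizer h)

theorem exists_Bl : ∃ a b, Indep A a b c ∧ Bl A θ t c a b ≠ ⊥ := by
  have S := M.toSetup
  by_contra hne
  push Not at hne
  obtain ⟨a, ha, hac, -, -⟩ := S.exists_not_mem_pair o.pt o.pt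
  obtain ⟨b, hb, hba, hbc, hbac⟩ := S.exists_not_mem_pair ha o.pt
  have h : Indep A a b c := S.indep_of ha hb o.pt hba.symm (Ne.symm hac) (Ne.symm hbc)
    fun e => hbac (by rw [e, ← mul_assoc, S.sq ha.1, one_mul])
  set W := Wsub A θ t c with hW
  have hWA := S.Wsub_norm_A (q := t) o.pt
  have hodd : Odd (Nat.card W) := card_odd_of_le S.Wsub_le S.thetaCore_odd
  have key : ∀ x y, Indep A x y c → (W ⊓ centralizer ({x} : Set G)) ⊓ centralizer ({y} : Set G) ≤
      centralizer ({c} : Set G) := by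
    intro x y hxy
    rw [inf_assoc]
    refine (invGen_eq_bot_iff (card_odd_of_le inf_le_left hodd) (S.sq o.pt.1) ?_).1 (hne x y hxy)
    exact S.norm_inf hWA (S.norm_inf (S.norm_C hxy.1.1) (S.norm_C hxy.2.1.1)) o.pt.1
  have col : ∀ x y, Indep A x y c → W ⊓ centralizer ({x} : Set G) ≤ centralizer ({c} : Set G) := by
    intro x y hxy
    exact S.gen3 (card_odd_of_le inf_le_left hodd) (S.norm_inf hWA (S.norm_C hxy.1.1)) hxy.2.1.1
      o.pt.1 (key x y hxy) inf_le_right (key x (y * c) (S.indep_mul_c hxy))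
  have hWC : W ≤ centralizer ({c} : Set G) := S.gen3 hodd hWA ha.1 hb.1 (col a b h)
    (col b a (S.indep_swap h)) (col (a * b) a (S.indep_swap (S.indep_mul h)))
  refine o.ne ?_
  show W = ⊥
  rw [hW, Wsub, ← invGen_idem, ← Wsub, ← hW]
  exact (invGen_eq_bot_iff hodd (S.sq o.pt.1) (hWA o.pt.1)).2 hWC

theorem exists_outside {a b : G} (h : Indep A a b c) (hB : Bl A θ t c a b ≠ ⊥) :
    ∃ a' b', Indep A a' b' c ∧ ¬ θ a' ≤ J ∧ ¬ θ b' ≤ J ∧ Bl A θ t c a' b' ≠ ⊥ := by
  have S := M.toSetup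
  have hc := M.own_theta_le o
  have two : ∀ x y, Indep A x y c → θ x ≤ J → ¬ θ y ≤ J := fun x y hxy h1 h2 =>
    M.no_three o.ak.mem hxy.1 hxy.2.1 hxy.2.2.1 hxy.2.2.2.1 hxy.2.2.2.2.1 hxy.2.2.2.2.2.1 h1 h2 hc
  by_cases h1 : θ a ≤ J
  · have h' := S.indep_swap h
    refine ⟨b, b * a, S.indep_mul h', two a b h h1, two a _ ?_ h1, ?_⟩
    · rw [S.comm h.2.1.1 h.1.1]; exact S.indep_mul h
    · rwa [S.Bl_mul h.2.1.1, S.Bl_swap]
  by_cases h2 : θ b ≤ J
  · refine ⟨a, a * b, S.indep_mul h, h1, two b _ ?_ h2, by rwa [S.Bl_mul h.1.1]⟩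
    rw [S.comm h.1.1 h.2.1.1]; exact S.indep_mul (S.indep_swap h)
  exact ⟨a, b, h, h1, h2, hB⟩

/-- A member normalising `B` lies in `J`. -/
theorem owns_Bl (hbig : Two J ∨ Three A θ) {a b : G} (h : Indep A a b c)
    (hB : Bl A θ t c a b ≠ ⊥) : Owns A θ (Bl A θ t c a b) J := by
  have S := M.toSetup
  haveI := Fact.mk o.prime
  set B := Bl A θ t c a b
  set W := Wsub A θ t c
  have hBT : B ≤ Oc t J := S.Bl_le.trans (M.own_W_le_Oc o)
  obtain ⟨H, hH, hHo⟩ := M.exists_owner (S.Bl_mem h) hB (S.Bl_norm_K h)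
  have hBH : B ≤ H := hHo _ (S.Bl_mem h) le_normalizer
  have hBT' : B ≤ Oc t H := S.Bl_le_Oc h hH.mem hBH
  have hZJ : ∀ q, q.Prime → Zc q J ≤ H := fun q hq =>
    hHo _ (S.Zc_mem o.ak.mem q) (le_normalizer_of_le_centralizer (Zc_le_centralizer o.prime hBT hq))
  have hsub : ∀ s, InS s H → InS s J := by
    intro s hs
    by_contra hsJ
    have hst : s ≠ t := fun e => hsJ (e ▸ M.own_inS o)
    haveI := Fact.mk hs.1
    set Y := Oc s H
    have hYJ0 : Oc s J = ⊥ := by
      by_contra e; exact hsJ ⟨hs.1, e⟩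
    have hYB : Y ≤ centralizer (B : Set G) := Oc_le_centralizer o.prime hBT' hs.1 hst
    -- `Y ∩ J = 1`
    have hYJ : Y ⊓ J = ⊥ := by
      have hp : IsPGroup s ↥(Y ⊓ J) := (Oc_isPGroup s H).to_le inf_le_left
      refine le_bot_iff.1 (hYJ0 ▸ pgroup_le_Oc o.ak.mem.1 hs.1 hp inf_le_right fun q hq => ?_)
      by_cases hqs : q = s
      · exact bot_le_centralizer (hqs ▸ hYJ0)
      by_cases hqt : q = t
      · subst hqt
        have hC : Oc q J ⊓ centralizer (B : Set G) ≤ H := hHo _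
          (S.mem_of_le o.ak.mem (inf_le_left.trans (Oc_le q J)) (S.norm_inf (S.Oc_norm_A o.ak.mem q)
            (CfsgLib.Coprime.le_normalizer_centralizer (S.Bl_norm_A h))))
          (inf_le_right.trans (centralizer_le_normalizer _))
        refine CfsgLib.Coprime.pq_lemma (p := q) (P := B) S.Bl_isPGroup
          (coprime_of_primes hs.1 o.prime hst hp) (Oc_isPGroup q J)
          (le_centralizer_iff.1 (inf_le_left.trans hYB))
          ((hBT.trans (Oc_le q J)).trans (Oc_norm q J)) (inf_le_right.trans (Oc_norm q J)) ?_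
        refine le_centralizer_of_normalize ?_ ?_ ?_
        · exact inf_eq_bot_of_primes o.prime hs.1 (Ne.symm hst)
            ((Oc_isPGroup q J).to_le inf_le_left) hp
        · exact (le_inf (hC.trans (Oc_norm s H))
            ((inf_le_left.trans (Oc_le q J)).trans le_normalizer)).trans inf_normalizer_le_normalizer_inf
        · exact (le_inf (inf_le_right.trans (Oc_norm q J))
            ((inf_le_left.trans hYB).trans ((centralizer_le_normalizer _).trans
              (CfsgLib.Coprime.le_normalizer_centralizer le_rfl)))).trans inf_normalizer_le_normalizer_inf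
      · have hV : Oc q J ≤ H := hHo _ (S.Oc_mem o.ak.mem q)
          (le_normalizer_of_le_centralizer (Oc_le_centralizer o.prime hBT hq hqt))
        exact le_centralizer_of_normalize (inf_eq_bot_of_primes hs.1 hq (Ne.symm hqs) hp (Oc_isPGroup q J))
          (inf_le_right.trans (Oc_norm q J))
          ((le_inf (hV.trans (Oc_norm s H)) ((Oc_le q J).trans le_normalizer)).trans
            inf_normalizer_le_normalizer_inf)
    by_cases h3 : Three A θ
    · obtain ⟨x, hx, hxt, hxs⟩ := h3 t s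
      obtain ⟨L, hL, hLm⟩ := M.exists_Lx hx
      have hWL : W ≤ L := hLm _ (S.Wsub_mem o.pt) (S.Wsub_norm_K o.pt)
        (not_dvd_of_isPGroup o.prime hx.1 (Ne.symm hxt) S.Wsub_isPGroup)
      have hYL : Y ≤ L := hLm _ (S.Oc_mem hH.mem s) (hH.K_le.trans (Oc_norm s H))
        (not_dvd_of_isPGroup hs.1 hx.1 (Ne.symm hxs) (Oc_isPGroup s H))
      have hWR : W ≤ Oc t L := S.Wsub_le_Oc o.pt hL.mem hWL
      have hC : Oc t L ⊓ centralizer (B : Set G) ≤ H := hHo _
        (S.mem_of_le hL.mem (inf_le_left.trans (Oc_le t L)) (S.norm_inf (S.Oc_norm_A hL.mem t)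
          (CfsgLib.Coprime.le_normalizer_centralizer (S.Bl_norm_A h))))
        (inf_le_right.trans (centralizer_le_normalizer _))
      have hYR : Y ≤ centralizer (Oc t L : Set G) := by
        refine CfsgLib.Coprime.pq_lemma (p := t) (P := B) S.Bl_isPGroup
          (coprime_of_primes hs.1 o.prime hst (Oc_isPGroup s H)) (Oc_isPGroup t L)
          (le_centralizer_iff.1 hYB) ((S.Bl_le.trans hWL).trans (Oc_norm t L))
          (hYL.trans (Oc_norm t L)) ?_
        refine le_centralizer_of_normalize ?_ (hC.trans (Oc_norm s H)) ?_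
        · exact inf_eq_bot_of_primes o.prime hs.1 (Ne.symm hst)
            ((Oc_isPGroup t L).to_le inf_le_left) (Oc_isPGroup s H)
        · exact (le_inf (hYL.trans (Oc_norm t L))
            (hYB.trans ((centralizer_le_normalizer _).trans
              (CfsgLib.Coprime.le_normalizer_centralizer le_rfl)))).trans inf_normalizer_le_normalizer_inf
      have hYJ' : Y ≤ J := M.own_mem_le o (S.Oc_mem hH.mem s) (hYR.trans (centralizer_le hWR))
      exact hs.2 (le_bot_iff.1 (hYJ ▸ le_inf le_rfl hYJ'))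
    · obtain ⟨p, p', hpp', hp, hp'⟩ := hbig.resolve_right h3
      simp only [Three, not_forall, not_exists, not_and, not_ne_iff] at h3
      obtain ⟨x, y, hxy⟩ := h3
      have hall : ∀ z, InPi A θ z → z = x ∨ z = y := fun z hz => by
        by_cases e : z = x
        exacts [Or.inl e, Or.inr (hxy z hz e)]
      rcases hall s (S.inPi_of_inS hH.mem hs) with e | e <;>
        rcases hall p (S.inPi_of_inS o.ak.mem hp) with e1 | e1 <;>
        rcases hall p' (S.inPi_of_inS o.ak.mem hp') with e2 | e2 <;>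
        first
        | exact hpp' (e1.trans e2.symm)
        | exact hsJ (e.trans e1.symm ▸ hp)
        | exact hsJ (e.trans e2.symm ▸ hp')
  rw [← M.eq_of_Zc hH o.ak hZJ hsub]
  exact hHo

/-- Members containing `B` have their `Z(F)` in `J`. -/
theorem Zc_le_of_Bl (hbig : Two J ∨ Three A θ) {a b : G} (h : Indep A a b c)
    (hB : Bl A θ t c a b ≠ ⊥) {H : Subgroup G} (hH : Mem A θ H) (hBH : Bl A θ t c a b ≤ H) {q : ℕ}
    (hq : q.Prime) : Zc q H ≤ J ∧ (q ≠ t → Oc q H ≤ J) := by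
  have S := M.toSetup
  haveI := Fact.mk o.prime
  have hBT := S.Bl_le_Oc h hH hBH
  exact ⟨M.owns_Bl o hbig h hB _ (S.Zc_mem hH q)
      (le_normalizer_of_le_centralizer (Zc_le_centralizer o.prime hBT hq)),
    fun hqt => M.owns_Bl o hbig h hB _ (S.Oc_mem hH q)
      (le_normalizer_of_le_centralizer (Oc_le_centralizer o.prime hBT hq hqt))⟩

end Own

/-! ### Fixed points -/

section Semi

variable {a : G}

theorem semi_eq {H : Subgroup G} (ha : Pt A a) (hs : Semi A θ a) (hH : AKMax A θ H)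
    (hle : θ a ≤ H) : H = θ a := by
  have S := M.toSetup
  refine le_antisymm ?_ hle
  refine (le_inf le_rfl (S.le_C_of_cores hH.mem ha.1 fun q hq => ?_)).trans (S.mem_fix hH.mem ha)
  haveI := Fact.mk hq
  refine (invGen_eq_bot_iff (S.mem_odd (S.Oc_mem hH.mem q)) (S.sq ha.1)
    (S.Oc_norm_A hH.mem q ha.1)).1 (le_bot_iff.1 ?_)
  rw [← hs q hq]
  exact S.invGen_le_Wsub ha (S.Oc_mem hH.mem q) (Oc_isPGroup q H) (hle.trans (Oc_norm q H))

theorem semi_akmax (ha : Pt A a) (hs : Semi A θ a) : AKMax A θ (θ a) := by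
  obtain ⟨J, hJ, hle⟩ := M.toSetup.exists_akmax_theta ha
  rwa [M.semi_eq ha hs hJ hle] at hJ

theorem semi_inj {b : G} (ha : Pt A a) (hb : Pt A b) (hs : Semi A θ a) (hle : θ a ≤ θ b) :
    a = b := by
  by_contra hne
  have S := M.toSetup
  have hJ := M.semi_akmax ha hs
  have hab : θ a ≤ θ (a * b) := (le_inf le_rfl hle).trans (S.theta_inf_le ha hb hne)
  have e := hJ.max _ (S.theta_mem (S.mul_mem_pt ha hb hne)) hab
  exact M.no_three (S.theta_mem ha) ha hb (S.mul_mem_pt ha hb hne) hne (mul_ne_left hb.2).symm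
    (mul_ne_right ha.2).symm le_rfl (hJ.max _ (S.theta_mem hb) hle).le e.le

theorem semi_fix (ha : Pt A a) (hs : Semi A θ a) {q : ℕ} (hq : InS q (θ a)) {Q : Subgroup G}
    (hQ : Mem A θ Q) (hQq : IsPGroup q Q) : Q ≤ centralizer ({a} : Set G) := by
  have S := M.toSetup
  haveI := Fact.mk hq.1
  obtain ⟨R, hR, hle⟩ := S.exists_maxP hQ hQq
  refine hle.trans ?_
  have hJ := M.semi_akmax ha hs
  set U := Oc q (θ a) with hU
  have hUR : U ≤ R := (S.le_Pq (S.Oc_mem hJ.mem q) (Oc_isPGroup q _)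
    (hJ.K_le.trans (Oc_norm q _))).trans (S.Pq_le hR)
  set E := R ⊓ θ a with hE
  have hRC : R ⊓ centralizer ({a} : Set G) ≤ E := le_inf inf_le_left (S.mem_fix hR.1 ha)
  have hNU : R ⊓ normalizer (U : Set G) ≤ E := le_inf inf_le_left (M.owns_Oc hJ hq _
    (S.mem_of_le hR.1 inf_le_left (S.norm_inf (S.mem_norm hR.1)
      ((S.Oc_norm_A hJ.mem q).trans le_normalizer))) inf_le_right)
  suffices hRE : R ≤ E from hRE.trans (inf_le_right.trans (S.theta_le ha))
  by_contra hne
  haveI := hR.2.1.isNilpotent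
  have hlt : E.subgroupOf R < ⊤ := lt_top_iff_ne_top.mpr fun h => hne (subgroupOf_eq_top.mp h)
  obtain ⟨n, hn, hnE⟩ := SetLike.exists_of_lt (Group.normalizerCondition_of_isNilpotent _ hlt)
  rw [← subgroupOf_normalizer_eq inf_le_left, mem_subgroupOf] at hn
  set N := R ⊓ normalizer (E : Set G) with hN
  have hNodd : Odd (Nat.card N) := card_odd_of_le inf_le_left (S.mem_odd hR.1)
  have hEA : A ≤ normalizer (E : Set G) := S.norm_inf (S.mem_norm hR.1) (S.theta_norm ha)
  obtain ⟨f, i, hf, hfc, hi, hinv, he⟩ := exists_fixed_mul_inverted hNodd (S.sq ha.1)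
    (S.norm_inf (S.mem_norm hR.1) (hEA.trans le_normalizer) ha.1)
    (k := (n : G)) (mem_inf.2 ⟨n.2, hn⟩)
  refine hnE (mem_subgroupOf.2 ?_)
  rw [he]
  refine mul_mem (hRC (mem_inf.2 ⟨hf.1, hfc⟩)) ?_
  have hiE : i ∈ centralizer (E : Set G) :=
    mem_centralizer_of_isPM (Or.inl (inf_le_right.trans (S.theta_le ha))) hi.2 (odd_orderOf hNodd hi) hinv
  exact hNU (mem_inf.2 ⟨hi.1, centralizer_le_normalizer _
    (centralizer_le (le_inf hUR (Oc_le q (θ a))) hiE)⟩)

theorem semi_not_full (ha : Pt A a) (hs : Semi A θ a) :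
    ∃ x, InPi A θ x ∧ ¬ InS x (θ a) := by
  have S := M.toSetup
  by_contra hne
  push Not at hne
  refine M.incomplete ⟨θ a, S.theta_mem ha, fun b hb => ?_⟩
  refine (le_inf le_rfl (S.le_C_of_cores (S.theta_mem hb) ha.1 fun q hq => ?_)).trans (S.balance hb ha)
  by_cases h : Oc q (θ b) = ⊥
  · rw [h]; exact bot_le
  exact M.semi_fix ha hs (hne q (S.inPi_of_inS (S.theta_mem hb) ⟨hq, h⟩))
    (S.Oc_mem (S.theta_mem hb) q) (Oc_isPGroup q _)

theorem semi_exists_Z {b : G} (ha : Pt A a) (hb : Pt A b) (hs : Semi A θ a) (hne : a ≠ b) :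
    ∃ s, s.Prime ∧ invGen (Oc s (θ a)) b ≠ ⊥ := by
  have S := M.toSetup
  by_contra h
  push Not at h
  refine hne (M.semi_inj ha hb hs ?_)
  refine (le_inf le_rfl (S.le_C_of_cores (S.theta_mem ha) hb.1 fun q hq => ?_)).trans (S.balance ha hb)
  exact (invGen_eq_bot_iff (S.mem_odd (S.Oc_mem (S.theta_mem ha) q)) (S.sq hb.1)
    (S.Oc_norm_A (S.theta_mem ha) q hb.1)).1 (h q hq)

end Semi

end Min

end CfsgLib.Signalizer2
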