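import Mathlib
import Cfsg.Agent.Lib.Signalizer2.Moved

/-!
# At least three primes: there are no moved points
-/

set_option autoImplicit false
set_option linter.style.haveILetI false
set_option linter.unusedSectionVars false

open scoped Pointwise commutatorElement

namespace CfsgLib.Signalizer2

open Cfsg Subgroup CfsgLib.Base CfsgLib.Signalizer CfsgLib.Components

universe u

variable {G : Type u} [Group G] [Finite G] {A : Subgroup G} {θ : G → Subgroup G}

/-- The weight lines of `(c, t)` have only fixed points outside `J`. -/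
def Good (A : Subgroup G) (θ : G → Subgroup G) (t : ℕ) (c : G) (J : Subgroup G) : Prop :=
  ∀ a b, Indep A a b c → Bl A θ t c a b ≠ ⊥ → ¬ θ a ≤ J → Semi A θ a

theorem Oc_le_centralizer_Zc {J : Subgroup G} {q s : ℕ} (hq : q.Prime) (hs : s.Prime) :
    Oc q J ≤ centralizer (Zc s J : Set G) := by
  by_cases h : q = s
  · subst h; exact le_centralizer_iff.1 inf_le_right
  · exact (Oc_le_centralizer (H := J) hs (le_refl (Oc s J)) hq h).trans (centralizer_le (Zc_le s J))

theorem invGen_congr {Q : Subgroup G} {c v : G} (h : ∀ x ∈ Q, c * x * c⁻¹ = v * x * v⁻¹) :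
    invGen Q c = invGen Q v :=
  le_antisymm (invGen_le_iff.2 fun x hx hi => mem_invGen hx (by rw [← h x hx, hi]))
    (invGen_le_iff.2 fun x hx hi => mem_invGen hx (by rw [h x hx, hi]))

namespace Min

variable (M : Min A θ)
include M

variable {t : ℕ} {c : G} {J : Subgroup G}

/-- A prime missing from `σ(J)` gives `J = L_x`. -/
theorem own_Lx (h3 : Three A θ) (o : Own A θ t c J) {x : ℕ} (hx : InPi A θ x) (hxJ : ¬ InS x J)
    {U : Subgroup G} (hU : Mem A θ U) (hUK : core0 A θ ≤ normalizer (U : Set G))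
    (hUx : ¬ x ∣ Nat.card U) : U ≤ J := by
  have S := M.toSetup
  haveI := Fact.mk o.prime
  obtain ⟨L, hL, hLm⟩ := M.exists_Lx hx
  have hxt : x ≠ t := fun e => hxJ (e ▸ M.own_inS o)
  have hWL : Wsub A θ t c ≤ L := hLm _ (S.Wsub_mem o.pt) (S.Wsub_norm_K o.pt)
    (not_dvd_of_isPGroup o.prime hx.1 (Ne.symm hxt) S.Wsub_isPGroup)
  have hFJ : ∀ q, q.Prime → Oc q J ≤ L := by
    intro q hq
    by_cases hqx : q = x
    · have : Oc q J = ⊥ := by
        by_contra e; exact hxJ (hqx ▸ ⟨hq, e⟩)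
      rw [this]; exact bot_le
    exact hLm _ (S.Oc_mem o.ak.mem q) (o.ak.K_le.trans (Oc_norm q J))
      (not_dvd_of_isPGroup hq hx.1 hqx (Oc_isPGroup q J))
  have hsub : ∀ s, InS s L → InS s J := by
    intro s hs
    by_contra hsJ
    have hst : s ≠ t := fun e => hsJ (e ▸ M.own_inS o)
    have hR : Oc s L ≤ J := M.own_mem_le o (S.Oc_mem hL.mem s)
      (Oc_le_centralizer o.prime (S.Wsub_le_Oc o.pt hL.mem hWL) hs.1 hst)
    have hYJ0 : Oc s J = ⊥ := by
      by_contra e; exact hsJ ⟨hs.1, e⟩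
    refine hs.2 (le_bot_iff.1 (hYJ0 ▸ pgroup_le_Oc o.ak.mem.1 hs.1 (Oc_isPGroup s L) hR fun q hq => ?_))
    by_cases hqs : q = s
    · exact bot_le_centralizer (hqs ▸ hYJ0)
    exact le_centralizer_of_normalize (inf_eq_bot_of_primes hs.1 hq (Ne.symm hqs) (Oc_isPGroup s L)
      (Oc_isPGroup q J)) (hR.trans (Oc_norm q J)) ((hFJ q hq).trans (Oc_norm s L))
  rw [M.eq_of_fit o.ak hL hFJ hsub]
  exact hLm U hU hUK hUx

/-- Pairs moved at different primes have the same owner. -/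
theorem own_unique (h3 : Three A θ) (o : Own A θ t c J) {r : ℕ} {c' : G} {J' : Subgroup G}
    (o' : Own A θ r c' J') (hrt : r ≠ t) : J = J' := by
  have S := M.toSetup
  haveI := Fact.mk o.prime
  haveI := Fact.mk o'.prime
  set W := Wsub A θ t c
  set W' := Wsub A θ r c'
  obtain ⟨x, hx, hxt, hxr⟩ := h3 t r
  obtain ⟨L, hL, hLm⟩ := M.exists_Lx hx
  have hWL : W ≤ L := hLm _ (S.Wsub_mem o.pt) (S.Wsub_norm_K o.pt)
    (not_dvd_of_isPGroup o.prime hx.1 (Ne.symm hxt) S.Wsub_isPGroup)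
  have hWL' : W' ≤ L := hLm _ (S.Wsub_mem o'.pt) (S.Wsub_norm_K o'.pt)
    (not_dvd_of_isPGroup o'.prime hx.1 (Ne.symm hxr) S.Wsub_isPGroup)
  have hcomm : W ≤ centralizer (W' : Set G) :=
    ((S.Wsub_le_Oc o.pt hL.mem hWL).trans (Oc_le_centralizer o'.prime (le_refl (Oc r L)) o.prime
      (Ne.symm hrt))).trans (centralizer_le (S.Wsub_le_Oc o'.pt hL.mem hWL'))
  have h1 : W' ≤ J := M.own_mem_le o (S.Wsub_mem o'.pt) (le_centralizer_iff.1 hcomm)
  have h2 : W ≤ J' := M.own_mem_le o' (S.Wsub_mem o.pt) hcomm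
  have h1' : W' ≤ Oc r J := S.Wsub_le_Oc o'.pt o.ak.mem h1
  have h2' : W ≤ Oc t J' := S.Wsub_le_Oc o.pt o'.ak.mem h2
  have hZ : ∀ q, q.Prime → Zc q J ≤ J' := fun q hq =>
    M.own_mem_le o' (S.Zc_mem o.ak.mem q) (Zc_le_centralizer o'.prime h1' hq)
  refine (M.eq_of_Zc o'.ak o.ak hZ fun y hy => ?_).symm
  by_contra hyJ
  have hyt : y ≠ t := fun e => hyJ (e ▸ M.own_inS o)
  have hyr : y ≠ r := fun e => hyJ (e ▸ ⟨o'.prime, fun e' => o'.ne (le_bot_iff.1 (e' ▸ h1'))⟩)
  set Y := Oc y J'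
  have hYJ : Y ≤ J := M.own_mem_le o (S.Oc_mem o'.ak.mem y) (Oc_le_centralizer o.prime h2' hy.1 hyt)
  have hY0 : Oc y J = ⊥ := by
    by_contra e; exact hyJ ⟨hy.1, e⟩
  refine hy.2 (le_bot_iff.1 (hY0 ▸ pgroup_le_Oc o.ak.mem.1 hy.1 (Oc_isPGroup y J') hYJ fun q hq => ?_))
  by_cases hqy : q = y
  · exact bot_le_centralizer (hqy ▸ hY0)
  have hd : ∀ U : Subgroup G, IsPGroup q U → Y ⊓ U = ⊥ := fun U hU =>
    inf_eq_bot_of_primes hy.1 hq (Ne.symm hqy) (Oc_isPGroup y J') hU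
  by_cases hqr : q = r
  · subst hqr
    have hWJ' : W' ≤ Oc q J' := M.own_W_le_Oc o'
    have hYW : Y ≤ centralizer (W' : Set G) :=
      (Oc_le_centralizer o'.prime hWJ' hy.1 hyr)
    have hC : Oc q J ⊓ centralizer (W' : Set G) ≤ J' := M.own_mem_le o'
      (S.mem_of_le o.ak.mem (inf_le_left.trans (Oc_le q J)) (S.norm_inf (S.Oc_norm_A o.ak.mem q)
        (CfsgLib.Coprime.le_normalizer_centralizer (S.Wsub_norm_A o'.pt)))) inf_le_right
    refine CfsgLib.Coprime.pq_lemma (p := q) (P := W') S.Wsub_isPGroup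
      (coprime_of_primes hy.1 o'.prime hyr (Oc_isPGroup y J')) (Oc_isPGroup q J)
      (le_centralizer_iff.1 hYW) (h1.trans (Oc_norm q J)) (hYJ.trans (Oc_norm q J)) ?_
    refine le_centralizer_of_normalize ?_ (hC.trans (Oc_norm y J')) ?_
    · rw [inf_comm]
      exact hd _ ((Oc_isPGroup q J).to_le inf_le_left)
    · exact (le_inf (hYJ.trans (Oc_norm q J)) (hYW.trans ((centralizer_le_normalizer _).trans
        (CfsgLib.Coprime.le_normalizer_centralizer le_rfl)))).trans inf_normalizer_le_normalizer_inf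
  · exact le_centralizer_of_normalize (hd _ (Oc_isPGroup q J)) (hYJ.trans (Oc_norm q J))
      ((M.own_mem_le o' (S.Oc_mem o.ak.mem q) (Oc_le_centralizer o'.prime h1' hq hqr)).trans
        (Oc_norm y J'))

section Outside

variable {a b : G}

/-- A piece of `F(J)` missing from `σ(H)` meets `H` trivially. -/
theorem missing_inf (o : Own A θ t c J) (hbig : Two J ∨ Three A θ) (h : Indep A a b c)
    (hB : Bl A θ t c a b ≠ ⊥) {H : Subgroup G} (hH : Mem A θ H) (hBH : Bl A θ t c a b ≤ H)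
    {s : ℕ} (hs : InS s J) (hsH : ¬ InS s H) : Oc s J ⊓ H = ⊥ := by
  have S := M.toSetup
  haveI := Fact.mk o.prime
  set B := Bl A θ t c a b
  have hst : s ≠ t := fun e => hsH (e ▸ ⟨o.prime, fun e' => hB (le_bot_iff.1 (e' ▸ S.Bl_le_Oc h hH hBH))⟩)
  have hH0 : Oc s H = ⊥ := by
    by_contra e; exact hsH ⟨hs.1, e⟩
  have hp : IsPGroup s ↥(Oc s J ⊓ H) := (Oc_isPGroup s J).to_le inf_le_left
  have hBT : B ≤ Oc t J := S.Bl_le.trans (M.own_W_le_Oc o)
  refine le_bot_iff.1 (hH0 ▸ pgroup_le_Oc hH.1 hs.1 hp inf_le_right fun q hq => ?_)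
  by_cases hqs : q = s
  · exact bot_le_centralizer (hqs ▸ hH0)
  have hd : ∀ U : Subgroup G, IsPGroup q U → (Oc s J ⊓ H) ⊓ U = ⊥ := fun U hU =>
    inf_eq_bot_of_primes hs.1 hq (Ne.symm hqs) hp hU
  by_cases hqt : q = t
  · subst hqt
    have hYB : Oc s J ≤ centralizer (B : Set G) := Oc_le_centralizer o.prime hBT hs.1 hst
    have hC : Oc q H ⊓ centralizer (B : Set G) ≤ J := M.owns_Bl o hbig h hB _
      (S.mem_of_le hH (inf_le_left.trans (Oc_le q H)) (S.norm_inf (S.Oc_norm_A hH q)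
        (CfsgLib.Coprime.le_normalizer_centralizer (S.Bl_norm_A h))))
      (inf_le_right.trans (centralizer_le_normalizer _))
    refine CfsgLib.Coprime.pq_lemma (p := q) (P := B) S.Bl_isPGroup
      (coprime_of_primes hs.1 o.prime hst hp) (Oc_isPGroup q H)
      (le_centralizer_iff.1 (inf_le_left.trans hYB)) (hBH.trans (Oc_norm q H))
      (inf_le_right.trans (Oc_norm q H)) ?_
    refine le_centralizer_of_normalize ?_ ?_ ?_
    · rw [inf_comm]; exact hd _ ((Oc_isPGroup q H).to_le inf_le_left)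
    · exact (le_inf (hC.trans (Oc_norm s J))
        ((inf_le_left.trans (Oc_le q H)).trans le_normalizer)).trans inf_normalizer_le_normalizer_inf
    · exact (le_inf (inf_le_right.trans (Oc_norm q H))
        ((inf_le_left.trans hYB).trans ((centralizer_le_normalizer _).trans
          (CfsgLib.Coprime.le_normalizer_centralizer le_rfl)))).trans inf_normalizer_le_normalizer_inf
  · exact le_centralizer_of_normalize (hd _ (Oc_isPGroup q H)) (inf_le_right.trans (Oc_norm q H))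
      ((le_inf (((M.Zc_le_of_Bl o hbig h hB hH hBH hq).2 hqt).trans (Oc_norm s J))
        ((Oc_le q H).trans le_normalizer)).trans inf_normalizer_le_normalizer_inf)

theorem exists_missing (o : Own A θ t c J) (hbig : Two J ∨ Three A θ) (h : Indep A a b c)
    (hB : Bl A θ t c a b ≠ ⊥) {H : Subgroup G} (hH : AKMax A θ H) (ha : θ a ≤ H)
    (haJ : ¬ θ a ≤ J) : ∃ s, InS s J ∧ ¬ InS s H := by
  by_contra hne
  push Not at hne
  refine haJ ?_
  rwa [M.eq_of_Zc o.ak hH
    (fun q hq => (M.Zc_le_of_Bl o hbig h hB hH.mem ((M.toSetup.Bl_le_theta h).trans ha) hq).1) hne]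

/-- A moved outside point. -/
theorem moved_outside (h3 : Three A θ) (o : Own A θ t c J) (h : Indep A a b c)
    (hB : Bl A θ t c a b ≠ ⊥) (haJ : ¬ θ a ≤ J) {r : ℕ} {H : Subgroup G} (o' : Own A θ r a H) :
    r = t ∧ (∃ s, InPi A θ s ∧ ¬ InS s H) ∧ ∀ y, InPi A θ y → InS y J := by
  have S := M.toSetup
  haveI := Fact.mk o.prime
  have haH := M.own_theta_le o'
  have hrt : r = t := by
    by_contra hne
    exact haJ (M.own_unique h3 o o' hne ▸ haH)
  subst hrt
  obtain ⟨s, hs, hsH⟩ := M.exists_missing o (Or.inr h3) h hB o'.ak haH haJ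
  refine ⟨rfl, ⟨s, S.inPi_of_inS o.ak.mem hs, hsH⟩, fun y hy => ?_⟩
  by_contra hyJ
  have hyr : y ≠ r := fun e => hyJ (e ▸ M.own_inS o)
  have hWJ : Wsub A θ r a ≤ J := M.own_Lx h3 o hy hyJ (S.Wsub_mem o'.pt) (S.Wsub_norm_K o'.pt)
    (not_dvd_of_isPGroup o.prime hy.1 (Ne.symm hyr) S.Wsub_isPGroup)
  have hsr : s ≠ r := fun e => hsH (e ▸ M.own_inS o')
  have hYH : Oc s J ≤ H := M.own_mem_le o' (S.Oc_mem o.ak.mem s)
    (Oc_le_centralizer o.prime (S.Wsub_le_Oc o'.pt o.ak.mem hWJ) hs.1 hsr)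
  refine hs.2 (le_bot_iff.1 ?_)
  rw [← M.missing_inf o (Or.inr h3) h hB o'.ak.mem ((S.Bl_le_theta h).trans haH) hs hsH]
  exact le_inf le_rfl hYH

end Outside

theorem exists_good (h3 : Three A θ) {c₀ : G} (hc₀ : Pt A c₀) (hns : ¬ Semi A θ c₀) :
    ∃ t c J, Own A θ t c J ∧ ∀ r J', Own A θ r c J' → Good A θ r c J' := by
  by_cases hex : ∃ t c J a b, Own A θ t c J ∧ Indep A a b c ∧ Bl A θ t c a b ≠ ⊥ ∧ ¬ θ a ≤ J ∧
      ¬ Semi A θ a
  · obtain ⟨t, c, J, a, b, o, h, hB, haJ, hsa⟩ := hex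
    obtain ⟨r, H, o'⟩ := M.exists_own_of_not_semi h.1 hsa
    refine ⟨r, a, H, o', fun r' H' o'' a' b' h' hB' ha' => ?_⟩
    by_contra hsa'
    obtain ⟨r'', H'', o3⟩ := M.exists_own_of_not_semi h'.1 hsa'
    obtain ⟨-, ⟨s, hs, hsH⟩, -⟩ := M.moved_outside h3 o h hB haJ o''
    exact hsH ((M.moved_outside h3 o'' h' hB' ha' o3).2.2 s hs)
  · push Not at hex
    obtain ⟨t, J, o⟩ := M.exists_own_of_not_semi hc₀ hns
    exact ⟨t, c₀, J, o, fun r J' o' a b h hB ha => hex r c₀ J' a b o' h hB ha⟩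

/-- With at least three primes every point is fixed. -/
theorem all_semi_of_three (h3 : Three A θ) {c₀ : G} (hc₀ : Pt A c₀) : Semi A θ c₀ := by
  by_contra hns
  have S := M.toSetup
  obtain ⟨t, c, J, o, hgood⟩ := M.exists_good h3 hc₀ hns
  haveI := Fact.mk o.prime
  obtain ⟨a₀, b₀, h₀, hB₀⟩ := M.exists_Bl o
  obtain ⟨a, b, h, haJ, hbJ, hB⟩ := M.exists_outside o h₀ hB₀
  have hsa : Semi A θ a := hgood t J o a b h hB haJ
  have hsb : Semi A θ b := hgood t J o b a (S.indep_swap h) (by rwa [S.Bl_swap]) hbJ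
  set B := Bl A θ t c a b
  have hAa := M.semi_akmax h.1 hsa
  have hAb := M.semi_akmax h.2.1 hsb
  have hta : InS t (θ a) :=
    ⟨o.prime, fun e => hB (le_bot_iff.1 (e ▸ S.Bl_le_Oc h hAa.mem (S.Bl_le_theta h)))⟩
  have htb : InS t (θ b) :=
    ⟨o.prime, fun e => hB (le_bot_iff.1 (e ▸ S.Bl_le_Oc h hAb.mem (S.Bl_le_theta' h)))⟩
  -- `a` and `b` act as `±1` on the pieces of `F(J)`
  have hpm : ∀ x y, Indep A x y c → Bl A θ t c x y ≠ ⊥ → ¬ θ x ≤ J → Semi A θ x →
      ∀ q, q.Prime → IsPM x (Oc q J) := by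
    intro x y hxy hBxy hxJ hsx q hq
    by_cases hqx : InS q (θ x)
    · exact Or.inl (M.semi_fix hxy.1 hsx hqx (S.Oc_mem o.ak.mem q) (Oc_isPGroup q J))
    by_cases hqJ : InS q J
    · refine Or.inr fun v hv => ?_
      refine inverted_of_inf_eq_bot (S.mem_odd (S.Oc_mem o.ak.mem q)) (S.sq hxy.1.1)
        (S.Oc_norm_A o.ak.mem q hxy.1.1) ?_ hv
      rw [eq_bot_iff, ← M.missing_inf o (Or.inr h3) hxy hBxy (S.theta_mem hxy.1)
        (S.Bl_le_theta hxy) hqJ hqx]
      exact le_inf inf_le_left (S.mem_fix (S.Oc_mem o.ak.mem q) hxy.1)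
    · refine Or.inl ?_
      have : Oc q J = ⊥ := by
        by_contra e; exact hqJ ⟨hq, e⟩
      rw [this]; exact bot_le
  have hpa := hpm a b h hB haJ hsa
  have hpb := hpm b a (S.indep_swap h) (by rwa [S.Bl_swap]) hbJ hsb
  set D := θ a ⊓ θ b with hD
  have hDm : Mem A θ D := S.mem_of_le hAa.mem inf_le_left (S.norm_inf (S.theta_norm h.1) (S.theta_norm h.2.1))
  -- `D ≤ J`
  have hDJ : D ≤ J := by
    obtain ⟨s, hs, hZ⟩ := M.semi_exists_Z h.1 h.2.1 hsa h.2.2.2.1
    haveI := Fact.mk hs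
    set Z := invGen (Oc s (θ a)) b
    have hOm := S.Oc_mem hAa.mem s
    have hst : s ≠ t := by
      rintro rfl
      exact hZ ((invGen_eq_bot_iff (S.mem_odd hOm) (S.sq h.2.1.1)
        (S.Oc_norm_A hAa.mem s h.2.1.1)).2 (M.semi_fix h.2.1 hsb htb hOm (Oc_isPGroup s _)))
    have hOJ : Oc s (θ a) ≤ J :=
      (M.Zc_le_of_Bl o (Or.inr h3) h hB hAa.mem (S.Bl_le_theta h) hs).2 hst
    have hZp : IsPGroup s Z := (Oc_isPGroup s _).to_le (invGen_le _ _)
    have hZc : Z ≤ Zc s J :=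
      pgroup_le_Zc hs hZp ((invGen_mono hOJ b).trans (S.invGen_le_ZF o.ak.mem hpb))
    have hZA : A ≤ normalizer (Z : Set G) :=
      le_normalizer_invGen_of_commute (S.Oc_norm_A hAa.mem s) (S.le_centralizer h.2.1.1)
    have hZm : Mem A θ Z := S.mem_of_le hOm (invGen_le _ _) hZA
    have hDZ : D ≤ normalizer (Z : Set G) := le_normalizer_invGen_of_commute
      (inf_le_left.trans (Oc_norm s (θ a))) (inf_le_right.trans (S.theta_le h.2.1))
    obtain ⟨H, hH, hHo⟩ := M.exists_owner hZm hZ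
      (((le_inf (S.core0_le h.1) (S.core0_le h.2.1)) : core0 A θ ≤ D).trans hDZ)
    have hFH : ∀ q, q.Prime → Oc q J ≤ H := fun q hq => hHo _ (S.Oc_mem o.ak.mem q)
      (le_normalizer_of_le_centralizer ((Oc_le_centralizer_Zc hq hs).trans (centralizer_le hZc)))
    have hBH : B ≤ H := (S.Bl_le.trans (M.own_W_le_Oc o)).trans (hFH t o.prime)
    have hsub : ∀ q, InS q H → InS q J := by
      intro q hq
      by_contra hqJ
      have hqt : q ≠ t := fun e => hqJ (e ▸ M.own_inS o)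
      have hR : Oc q H ≤ J := (M.Zc_le_of_Bl o (Or.inr h3) h hB hH.mem hBH hq.1).2 hqt
      have hY0 : Oc q J = ⊥ := by
        by_contra e; exact hqJ ⟨hq.1, e⟩
      refine hq.2 (le_bot_iff.1 (hY0 ▸ pgroup_le_Oc o.ak.mem.1 hq.1 (Oc_isPGroup q H) hR fun p hp => ?_))
      by_cases hpq : p = q
      · exact bot_le_centralizer (hpq ▸ hY0)
      exact le_centralizer_of_normalize (inf_eq_bot_of_primes hq.1 hp (Ne.symm hpq) (Oc_isPGroup q H)
        (Oc_isPGroup p J)) (hR.trans (Oc_norm p J)) ((hFH p hp).trans (Oc_norm q H))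
    rw [M.eq_of_fit o.ak hH hFH hsub]
    exact hHo D hDm hDZ
  -- the subgroup `E`
  set v := b * c with hv
  set E := invGen (θ a) v with hE
  have hvA : v ∈ A := mul_mem h.2.1.1 h.2.2.1.1
  have hEJ : E ≤ J := S.invGen_le_pair (S.odd h.1) (S.theta_norm h.1) h.2.1.1 h.2.2.1.1
    ((le_inf inf_le_left (S.balance h.1 h.2.1)).trans hDJ)
    ((S.balance h.1 h.2.2.1).trans (M.own_theta_le o))
  have hEA : A ≤ normalizer (E : Set G) :=
    le_normalizer_invGen_of_commute (S.theta_norm h.1) (S.le_centralizer hvA)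
  set U := Oc t (θ a) with hU
  have hUb : U ≤ centralizer ({b} : Set G) :=
    M.semi_fix h.2.1 hsb htb (S.Oc_mem hAa.mem t) (Oc_isPGroup t _)
  set X0 := invGen (U ⊓ E) c with hX0
  have hcv : ∀ x ∈ U ⊓ E, c * x * c⁻¹ = v * x * v⁻¹ := by
    intro x hx
    have hbx := mem_centralizer_singleton_iff_conj.1 (hUb hx.1)
    rw [hv, show b * c = c * b from S.comm h.2.1.1 h.2.2.1.1]
    calc c * x * c⁻¹ = c * (b * x * b⁻¹) * c⁻¹ := by rw [hbx]
      _ = _ := by group
  have hX0v : X0 = invGen (U ⊓ E) v := invGen_congr hcv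
  set Cv := θ a ⊓ centralizer ({v} : Set G) with hCv
  have hθa : θ a = Cv ⊔ E := (sup_invGen (S.odd h.1) (S.sq hvA) (S.theta_norm h.1 hvA)).symm
  have hCvE : Cv ≤ normalizer (E : Set G) :=
    le_normalizer_invGen_of_commute (inf_le_left.trans le_normalizer) inf_le_right
  have hUE : ∀ R : Subgroup G, R ≤ θ a → R ≤ normalizer (E : Set G) →
      R ≤ normalizer ((U ⊓ E : Subgroup G) : Set G) := fun R h1 h2 =>
    (le_inf (h1.trans (Oc_norm t (θ a))) h2).trans inf_normalizer_le_normalizer_inf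
  have hCvX0 : Cv ≤ normalizer (X0 : Set G) := by
    rw [hX0v]
    exact le_normalizer_invGen_of_commute (hUE Cv inf_le_left hCvE) inf_le_right
  set X := X0 ⊔ ⁅X0, E⁆ with hX
  have hX0le : X0 ≤ U ⊓ E := invGen_le _ _
  have hXle : X ≤ U ⊓ E := sup_le hX0le ((commutator_mono hX0le le_rfl).trans
    (CfsgLib.Coprime.commutator_le_of_le_normalizer (hUE E (invGen_le _ _) le_normalizer)))
  have hEX : E ≤ normalizer (X : Set G) := by
    refine le_normalizer_of_conj_mem fun e he x hx => ?_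
    have hle : X.map (MulAut.conj e).toMonoidHom ≤ X := by
      rw [hX, map_le_iff_le_comap]
      refine sup_le (fun y hy => ?_) fun y hy => ?_
      · show e * y * e⁻¹ ∈ X
        have e1 : e * y * e⁻¹ = ⁅e, y⁆ * y := by rw [commutatorElement_def]; group
        rw [e1]
        refine mul_mem (mem_sup_right ?_) (mem_sup_left hy)
        rw [commutator_comm]
        exact commutator_mem_commutator he hy
      · exact mem_sup_right ((mem_normalizer_iff.1 (normalizer_commutator_ge_right X0 E he) y).1 hy)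
    exact hle ⟨x, hx, rfl⟩
  have hnX : ∀ R : Subgroup G, R ≤ normalizer (X0 : Set G) → R ≤ normalizer (E : Set G) →
      R ≤ normalizer (X : Set G) := fun R h1 h2 =>
    CfsgLib.Coprime.le_normalizer_sup_sup h1 (CfsgLib.OddOrder.le_normalizer_commutator h1 h2)
  have hθX : θ a ≤ normalizer (X : Set G) := by
    rw [hθa]
    exact sup_le (hnX Cv hCvX0 hCvE) hEX
  have hXA : A ≤ normalizer (X : Set G) := hnX A
    (le_normalizer_invGen_of_commute (S.norm_inf (S.Oc_norm_A hAa.mem t) hEA)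
      (S.le_centralizer h.2.2.1.1)) hEA
  -- `B ≤ X`
  have hBX : B ≤ X := by
    refine le_trans ?_ (le_sup_left : X0 ≤ X)
    show invGen _ c ≤ X0
    refine invGen_le_iff.2 fun x hx hinv => mem_invGen ?_ hinv
    have hxB : x ∈ B := mem_invGen hx hinv
    refine mem_inf.2 ⟨S.Bl_le_Oc h hAa.mem (S.Bl_le_theta h) hxB,
      mem_invGen (S.Bl_le_theta h hxB) ?_⟩
    have hbx : b * x⁻¹ * b⁻¹ = x⁻¹ := by
      have := mem_centralizer_singleton_iff_conj.1 ((S.Bl_le_C hxB).2)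
      calc b * x⁻¹ * b⁻¹ = (b * x * b⁻¹)⁻¹ := by group
        _ = _ := by rw [this]
    calc v * x * v⁻¹ = b * (c * x * c⁻¹) * b⁻¹ := by rw [hv]; group
      _ = _ := by rw [hinv, hbx]
  have hXne : X ≠ ⊥ := fun e => hB (le_bot_iff.1 (e ▸ hBX))
  -- the pieces away from `t` centralise `X`
  have hVX : ∀ q, q.Prime → q ≠ t → Oc q J ≤ normalizer (X : Set G) := by
    intro q hq hqt
    haveI := Fact.mk hq
    set V := Oc q J
    have hVm := S.Oc_mem o.ak.mem q
    suffices h0 : X0 ≤ centralizer (V : Set G) by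
      refine le_normalizer_of_le_centralizer (le_centralizer_iff.1 (sup_le h0 ?_))
      refine commutator_le.2 fun x hx e he => ?_
      have hen : e ∈ normalizer ((centralizer (V : Set G) : Subgroup G) : Set G) :=
        CfsgLib.Coprime.le_normalizer_centralizer (hEJ.trans (Oc_norm q J)) he
      have e1 : ⁅x, e⁆ = x * (e * x⁻¹ * e⁻¹) := by rw [commutatorElement_def]; group
      rw [e1]
      exact mul_mem (h0 hx) ((mem_normalizer_iff.1 hen _).1 (inv_mem (h0 hx)))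
    have hX0J : X0 ≤ J := (hX0le.trans inf_le_right).trans hEJ
    by_cases hqa : InS q (θ a)
    · have hVa : V ≤ θ a :=
        (le_inf le_rfl (M.semi_fix h.1 hsa hqa hVm (Oc_isPGroup q J))).trans (S.mem_fix hVm h.1)
      refine (le_inf (hX0le.trans inf_le_left) hX0J : X0 ≤ U ⊓ J).trans ?_
      refine le_centralizer_of_normalize (inf_eq_bot_of_primes o.prime hq (Ne.symm hqt)
        ((Oc_isPGroup t _).to_le inf_le_left) (Oc_isPGroup q J)) (inf_le_right.trans (Oc_norm q J)) ?_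
      exact (le_inf (hVa.trans (Oc_norm t (θ a))) ((Oc_le q J).trans le_normalizer)).trans
        inf_normalizer_le_normalizer_inf
    have hpm' : IsPM c V := by
      by_cases hWq : Wsub A θ q c = ⊥
      · refine Or.inl ((invGen_eq_bot_iff (S.mem_odd hVm) (S.sq o.pt.1)
          (S.Oc_norm_A o.ak.mem q o.pt.1)).1 (le_bot_iff.1 ?_))
        rw [← hWq]
        exact S.invGen_le_Wsub o.pt hVm (Oc_isPGroup q J) ((M.own_theta_le o).trans (Oc_norm q J))
      obtain ⟨J', o'⟩ := M.exists_own hq o.pt hWq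
      obtain ⟨a₁, b₁, h₁, hB₁⟩ := M.exists_Bl o'
      obtain ⟨a', b', h', ha', hb', hB'⟩ := M.exists_outside o' h₁ hB₁
      have hsa' := hgood q J' o' a' b' h' hB' ha'
      have hsb' := hgood q J' o' b' a' (S.indep_swap h') (by rwa [S.Bl_swap]) hb'
      have hfix : ∀ x, Pt A x → Semi A θ x → Bl A θ q c a' b' ≤ θ x →
          V ≤ centralizer ({x} : Set G) := fun x hx hsx hle => M.semi_fix hx hsx
        ⟨hq, fun e => hB' (le_bot_iff.1 (e ▸ S.Bl_le_Oc h' (S.theta_mem hx) hle))⟩ hVm (Oc_isPGroup q J)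
      refine Or.inr fun w hw => inverted_of_inf_eq_bot (S.mem_odd hVm) (S.sq o.pt.1)
        (S.Oc_norm_A o.ak.mem q o.pt.1) ?_ hw
      rw [eq_bot_iff]
      intro w hw
      have hwA := S.mem_centralizer_A h' (hfix a' h'.1 hsa' (S.Bl_le_theta h') hw.1)
        (hfix b' h'.2.1 hsb' (S.Bl_le_theta' h') hw.1) hw.2
      have hwa : w ∈ centralizer ({a} : Set G) :=
        centralizer_le (Set.singleton_subset_iff.2 h.1.1) hwA
      by_cases hqJ : InS q J
      · rw [← M.missing_inf o (Or.inr h3) h hB hAa.mem (S.Bl_le_theta h) hqJ hqa]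
        exact mem_inf.2 ⟨hw.1, S.mem_fix hVm h.1 (mem_inf.2 ⟨hw.1, hwa⟩)⟩
      · have : Oc q J = ⊥ := by
          by_contra e; exact hqJ ⟨hq, e⟩
        rw [← this]; exact hw.1
    exact invGen_le_iff.2 fun x hx hinv => mem_centralizer_of_isPM hpm'
      (Oc_norm q J (hEJ hx.2))
      (odd_orderOf (S.mem_odd hAa.mem) (Oc_le t (θ a) hx.1)) hinv
  -- hence `J` normalises `X`
  have hDX : D ≤ normalizer (X : Set G) := inf_le_left.trans hθX
  have hfit : fitOf J ≤ normalizer (X : Set G) := by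
    rw [fitOf_eq_iSup]
    refine iSup_le fun q => ?_
    by_cases hqt : (q : ℕ) = t
    · refine le_trans ?_ hDX
      rw [hqt]
      have hm := S.Oc_mem o.ak.mem t
      refine le_inf ?_ ?_
      · exact (le_inf le_rfl (M.semi_fix h.1 hsa hta hm (Oc_isPGroup t J))).trans (S.mem_fix hm h.1)
      · exact (le_inf le_rfl (M.semi_fix h.2.1 hsb htb hm (Oc_isPGroup t J))).trans (S.mem_fix hm h.2.1)
    · exact hVX q q.2 hqt
  have hJX : J ≤ normalizer (X : Set G) := by
    have hodd := S.mem_odd o.ak.mem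
    rw [← sup_invGen hodd (S.sq h.1.1) (S.mem_norm o.ak.mem h.1.1)]
    refine sup_le ?_ ((S.invGen_le_ZF o.ak.mem hpa).trans (inf_le_left.trans hfit))
    rw [← sup_invGen (card_odd_of_le inf_le_left hodd) (S.sq h.2.1.1)
      ((S.norm_inf (S.mem_norm o.ak.mem) (S.norm_C h.1.1)) h.2.1.1)]
    refine sup_le (le_trans ?_ hDX)
      (((invGen_mono inf_le_left b).trans (S.invGen_le_ZF o.ak.mem hpb)).trans (inf_le_left.trans hfit))
    exact le_inf (inf_le_left.trans (S.mem_fix o.ak.mem h.1))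
      ((inf_le_inf_right _ inf_le_left).trans (S.mem_fix o.ak.mem h.2.1))
  have hXm : Mem A θ X := S.mem_of_le hAa.mem
    (hXle.trans (inf_le_left.trans (Oc_le t (θ a)))) hXA
  obtain ⟨H, hH, hHo⟩ := M.exists_owner hXm hXne (o.ak.K_le.trans hJX)
  refine haJ ?_
  rw [← o.ak.max H hH.mem (hHo J o.ak.mem hJX)]
  exact hHo _ hAa.mem hθX

end Min

end CfsgLib.Signalizer2
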