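import Mathlib
import Cfsg.Agent.Lib.Signalizer2.Many

/-!
# All points fixed: impossible
-/

set_option autoImplicit false
set_option linter.style.haveILetI false
set_option linter.unusedSectionVars false

open scoped Pointwise

namespace CfsgLib.Signalizer2

open Cfsg Subgroup CfsgLib.Base CfsgLib.Signalizer CfsgLib.Components

universe u

variable {G : Type u} [Group G] [Finite G] {A : Subgroup G} {θ : G → Subgroup G}

namespace Min

variable (M : Min A θ)
include M

section Fixed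

variable {L : Subgroup G} (hL : AKMax A θ L)
include hL

/-- A fixed point with Fitting subgroup in `L` acts as `±1` on every piece of `F(L)`. -/
theorem isPM_of_fit_le {v : G} (hv : Pt A v) (hs : Semi A θ v)
    (hF : ∀ q, q.Prime → Oc q (θ v) ≤ L) {q : ℕ} (hq : q.Prime) : IsPM v (Oc q L) := by
  have S := M.toSetup
  have hR := S.Oc_mem hL.mem q
  by_cases hqv : InS q (θ v)
  · exact Or.inl (M.semi_fix hv hs hqv hR (Oc_isPGroup q L))
  have h0 : Oc q (θ v) = ⊥ := by
    by_contra e; exact hqv ⟨hq, e⟩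
  refine Or.inr fun x hx => inverted_of_inf_eq_bot (S.mem_odd hR) (S.sq hv.1)
    (S.Oc_norm_A hL.mem q hv.1) (le_bot_iff.1 ?_) hx
  refine (le_inf inf_le_left (S.mem_fix hR hv)).trans ?_
  rw [← h0]
  refine pgroup_le_Oc (S.theta_mem hv).1 hq ((Oc_isPGroup q L).to_le inf_le_left) inf_le_right
    fun r hr => ?_
  by_cases hrq : r = q
  · exact bot_le_centralizer (hrq ▸ h0)
  refine le_centralizer_of_normalize (inf_eq_bot_of_primes hq hr (Ne.symm hrq)
    ((Oc_isPGroup q L).to_le inf_le_left) (Oc_isPGroup r _)) (inf_le_right.trans (Oc_norm r (θ v))) ?_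
  exact (le_inf ((hF r hr).trans (Oc_norm q L)) ((Oc_le r (θ v)).trans le_normalizer)).trans
    inf_normalizer_le_normalizer_inf

theorem fixed_inf_le (hall : ∀ v, Pt A v → Semi A θ v) {a b : G} (ha : Pt A a) (hb : Pt A b)
    (hab : a ≠ b) (hFa : ∀ q, q.Prime → Oc q (θ a) ≤ L) (hFb : ∀ q, q.Prime → Oc q (θ b) ≤ L)
    (hne : θ a ≠ L) : θ a ⊓ θ b ≤ L := by
  have S := M.toSetup
  have hAa := M.semi_akmax ha (hall a ha)
  obtain ⟨s, hs, hZ⟩ := M.semi_exists_Z ha hb (hall a ha) hab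
  haveI := Fact.mk hs
  set Z := invGen (Oc s (θ a)) b with hZdef
  have hOm := S.Oc_mem hAa.mem s
  have hZp : IsPGroup s Z := (Oc_isPGroup s _).to_le (invGen_le _ _)
  have hZc : Z ≤ Zc s L := pgroup_le_Zc hs hZp ((invGen_mono (hFa s hs) b).trans
    (S.invGen_le_ZF hL.mem fun q hq => M.isPM_of_fit_le hL hb (hall b hb) hFb hq))
  have hZm : Mem A θ Z := S.mem_of_le hOm (invGen_le _ _)
    (le_normalizer_invGen_of_commute (S.Oc_norm_A hAa.mem s) (S.le_centralizer hb.1))
  set D := θ a ⊓ θ b with hD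
  have hDZ : D ≤ normalizer (Z : Set G) := le_normalizer_invGen_of_commute
    (inf_le_left.trans (Oc_norm s (θ a))) (inf_le_right.trans (S.theta_le hb))
  have hDm : Mem A θ D :=
    S.mem_of_le hAa.mem inf_le_left (S.norm_inf (S.theta_norm ha) (S.theta_norm hb))
  obtain ⟨H, hH, hHo⟩ := M.exists_owner hZm hZ
    (((le_inf (S.core0_le ha) (S.core0_le hb)) : core0 A θ ≤ D).trans hDZ)
  have hLH : ∀ q, q.Prime → Oc q L ≤ H := fun q hq => hHo _ (S.Oc_mem hL.mem q)
    (le_normalizer_of_le_centralizer ((Oc_le_centralizer_Zc hq hs).trans (centralizer_le hZc)))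
  have haH : ∀ q, q.Prime → Oc q (θ a) ≤ H := by
    intro q hq
    refine hHo _ (S.Oc_mem hAa.mem q) ?_
    by_cases hqs : q = s
    · rw [hqs]
      exact le_normalizer_invGen (S.mem_odd hOm) (S.sq hb.1) (S.Oc_norm_A hAa.mem s hb.1)
    · exact le_normalizer_of_le_centralizer
        ((Oc_le_centralizer (H := θ a) hs (le_refl _) hq hqs).trans (centralizer_le (invGen_le _ _)))
  have hsub : ∀ q, InS q H → InS q L := by
    intro q hq
    by_contra hqL
    set R' := Oc q H with hR'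
    have hR'm := S.Oc_mem hH.mem q
    have key : ∀ K, Mem A θ K → Oc q K = ⊥ → (∀ r, r.Prime → Oc r K ≤ H) → R' ⊓ K = ⊥ := by
      intro K hK h0 hKH
      refine le_bot_iff.1 (h0 ▸ ?_)
      refine pgroup_le_Oc hK.1 hq.1 ((Oc_isPGroup q H).to_le inf_le_left) inf_le_right fun r hr => ?_
      by_cases hrq : r = q
      · exact bot_le_centralizer (hrq ▸ h0)
      refine le_centralizer_of_normalize (inf_eq_bot_of_primes hq.1 hr (Ne.symm hrq)
        ((Oc_isPGroup q H).to_le inf_le_left) (Oc_isPGroup r _)) (inf_le_right.trans (Oc_norm r K)) ?_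
      exact (le_inf ((hKH r hr).trans (Oc_norm q H)) ((Oc_le r K).trans le_normalizer)).trans
        inf_normalizer_le_normalizer_inf
    have hR'L : R' ⊓ L = ⊥ := key L hL.mem (by by_contra e; exact hqL ⟨hq.1, e⟩) hLH
    have hpm : IsPM a R' := by
      by_cases hqa : InS q (θ a)
      · exact Or.inl (M.semi_fix ha (hall a ha) hqa hR'm (Oc_isPGroup q H))
      refine Or.inr fun x hx => inverted_of_inf_eq_bot (S.mem_odd hR'm) (S.sq ha.1)
        (S.Oc_norm_A hH.mem q ha.1) (le_bot_iff.1 ?_) hx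
      refine le_trans (le_inf inf_le_left (S.mem_fix hR'm ha)) (le_of_eq ?_)
      exact key (θ a) hAa.mem (by by_contra e; exact hqa ⟨hq.1, e⟩) haH
    obtain ⟨r, hr, hrC⟩ : ∃ r, r.Prime ∧ ¬ Oc r L ≤ centralizer ({a} : Set G) := by
      by_contra hn
      push Not at hn
      exact hne (hL.max _ hAa.mem ((le_inf le_rfl (S.le_C_of_cores hL.mem ha.1 hn)).trans
        (S.mem_fix hL.mem ha)))
    have hinv := (M.isPM_of_fit_le hL ha (hall a ha) hFa hr).resolve_left hrC
    have hcent : Oc r L ≤ centralizer (R' : Set G) := fun z hz =>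
      mem_centralizer_of_isPM hpm (Oc_norm q H (hLH r hr hz))
        (odd_orderOf (S.mem_odd (S.Oc_mem hL.mem r)) hz) (hinv z hz)
    have hr' : InS r L := ⟨hr, fun e => hrC (by rw [e]; exact bot_le)⟩
    have hle : R' ≤ L := M.owns_Oc hL hr' _ hR'm
      (le_normalizer_of_le_centralizer (le_centralizer_iff.1 hcent))
    exact hq.2 (le_bot_iff.1 (hR'L ▸ le_inf le_rfl hle))
  rw [M.eq_of_fit hL hH hLH hsub]
  exact hHo D hDm hDZ

end Fixed

/-- Not all points are fixed. -/
theorem false_of_all_semi (hall : ∀ v, Pt A v → Semi A θ v) : False := by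
  have S := M.toSetup
  obtain ⟨x, hx⟩ : ∃ x, InPi A θ x := by
    by_contra hn
    push Not at hn
    refine M.incomplete (S.complete_of_bot fun a ha => ?_)
    by_contra hne
    obtain ⟨q, hq⟩ := CfsgLib.Signalizer2.exists_inS (S.theta_mem ha).1 hne
    exact hn q (S.inPi_of_inS (S.theta_mem ha) hq)
  haveI := Fact.mk hx.1
  obtain ⟨L, hL, hLm⟩ := M.exists_Lx hx
  set T : G → Prop := fun v => ∀ q, q.Prime → Oc q (θ v) ≤ L with hT
  have hTout : ∀ v, Pt A v → ¬ InS x (θ v) → T v := by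
    intro v hv hxv q hq
    by_cases hqx : q = x
    · have : Oc q (θ v) = ⊥ := by
        by_contra e; exact hxv (hqx ▸ ⟨hq, e⟩)
      rw [this]; exact bot_le
    exact hLm _ (S.Oc_mem (S.theta_mem hv) q) ((S.core0_le hv).trans (Oc_norm q _))
      (not_dvd_of_isPGroup hq hx.1 hqx (Oc_isPGroup q _))
  -- a line outside which all points lie in `T`
  obtain ⟨p, p', c, h, hline⟩ : ∃ p p' c, Indep A p p' c ∧
      ∀ v, Pt A v → v ≠ p → v ≠ p' → v ≠ p * p' → T v := by
    by_cases h3 : ∃ a b c, Indep A a b c ∧ InS x (θ a) ∧ InS x (θ b) ∧ InS x (θ c)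
    · obtain ⟨a, b, c, h, ha, hb, hc⟩ := h3
      refine ⟨a, b, c, h, fun v hv _ _ _ q hq => ?_⟩
      by_cases hxv : InS x (θ v)
      · by_cases hqx : q = x
        · subst hqx
          refine le_trans ?_ hL.K_le
          have hm := S.Pq_mem (q := q)
          have hle : Pq A θ q ≤ core0 A θ := fun y hy => S.mem_core0_of hm hy
            (S.mem_centralizer_A h (M.semi_fix h.1 (hall a h.1) ha hm S.Pq_isPGroup hy)
              (M.semi_fix h.2.1 (hall b h.2.1) hb hm S.Pq_isPGroup hy)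
              (M.semi_fix h.2.2.1 (hall c h.2.2.1) hc hm S.Pq_isPGroup hy))
          exact (S.le_Pq (S.Oc_mem (S.theta_mem hv) q) (Oc_isPGroup q _)
            ((S.core0_le hv).trans (Oc_norm q _))).trans hle
        exact hLm _ (S.Oc_mem (S.theta_mem hv) q) ((S.core0_le hv).trans (Oc_norm q _))
          (not_dvd_of_isPGroup hq hx.1 hqx (Oc_isPGroup q _))
      · exact hTout v hv hxv q hq
    · by_cases h2 : ∃ a b, Pt A a ∧ Pt A b ∧ a ≠ b ∧ InS x (θ a) ∧ InS x (θ b)
      · obtain ⟨a, b, ha, hb, hab, hxa, hxb⟩ := h2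
        obtain ⟨c, hc, h1, h2, h4⟩ := S.exists_not_mem_pair ha hb
        refine ⟨a, b, c, S.indep_of ha hb hc hab h1 h2 h4, fun v hv e1 e2 e3 => hTout v hv fun hxv => ?_⟩
        exact h3 ⟨a, b, v, S.indep_of ha hb hv hab e1 e2 e3, hxa, hxb, hxv⟩
      · obtain ⟨a, b, c, h⟩ := S.exists_indep
        by_cases h1 : ∃ v, Pt A v ∧ InS x (θ v)
        · obtain ⟨v, hv, hxv⟩ := h1
          obtain ⟨b', hb', hbv, -, -⟩ := S.exists_not_mem_pair hv hv
          obtain ⟨c', hc', e1, e2, e3⟩ := S.exists_not_mem_pair hv hb'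
          refine ⟨v, b', c', S.indep_of hv hb' hc' hbv.symm e1 e2 e3,
            fun w hw e _ _ => hTout w hw fun hxw => h2 ⟨w, v, hw, hv, e, hxw, hxv⟩⟩
        · exact ⟨a, b, c, h, fun v hv _ _ _ => hTout v hv fun hxv => h1 ⟨v, hv, hxv⟩⟩
  set In : G → Prop := fun v => v = 1 ∨ v = p ∨ v = p' ∨ v = p * p' with hIn
  have hTI : ∀ v, v ∈ A → ¬ In v → Pt A v ∧ T v := fun v hv hn => by
    simp only [hIn, not_or] at hn
    exact ⟨⟨hv, hn.1⟩, hline v ⟨hv, hn.1⟩ hn.2.1 hn.2.2.1 hn.2.2.2⟩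
  have hmul : ∀ v w, In v → In w → In (v * w) := by
    have haa := S.sq h.1.1
    have hbb := S.sq h.2.1.1
    have e1 : p' * p = p * p' := S.comm h.2.1.1 h.1.1
    have e2 : p * (p * p') = p' := by rw [← mul_assoc, haa, one_mul]
    have e3 : p * p' * p' = p := by rw [mul_assoc, hbb, mul_one]
    have e4 : p' * (p * p') = p := by rw [← mul_assoc, e1, e3]
    have e5 : p * p' * p = p' := by rw [mul_assoc, e1, e2]
    have e6 : p * p' * (p * p') = 1 := S.sq (mul_mem h.1.1 h.2.1.1)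
    intro v w hv hw
    simp only [hIn] at hv hw ⊢
    rcases hv with hv | hv | hv | hv <;> rcases hw with hw | hw | hw | hw <;> rw [hv, hw] <;>
      simp [haa, hbb, e1, e2, e3, e4, e5, e6]
  have hLeq : ∀ a, a ∈ A → ¬ In a → θ a = L := by
    intro a haA hna
    obtain ⟨ha, hTa⟩ := hTI a haA hna
    by_contra hne
    obtain ⟨u, hu, hua, -, -⟩ := S.exists_not_mem_pair ha ha
    obtain ⟨w, hw, hwa, hwu, hwau⟩ := S.exists_not_mem_pair ha hu
    have huw : u * w ≠ a := fun e => hwau (by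
      rw [← e, S.comm (mul_mem hu.1 hw.1) hu.1, ← mul_assoc, S.sq hu.1, one_mul])
    have step : ∀ g, Pt A g → g ≠ a → θ a ⊓ centralizer ({g} : Set G) ≤ L := by
      intro g hg hga
      by_cases hIg : In g
      · have hn : ¬ In (a * g) := fun e => hna (by
          have := hmul _ _ e hIg
          rwa [mul_assoc, S.sq hg.1, mul_one] at this)
        obtain ⟨hb, hTb⟩ := hTI (a * g) (mul_mem haA hg.1) hn
        refine le_trans (le_inf inf_le_left ?_)
          (M.fixed_inf_le hL hall ha hb (mul_ne_left hg.2).symm hTa hTb hne)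
        refine le_trans (le_inf inf_le_left fun y hy => ?_) (S.balance ha hb)
        rw [mem_centralizer_singleton_iff]
        exact (show Commute y a from mem_centralizer_singleton_iff.1 (S.theta_le ha hy.1)).mul_right
          (mem_centralizer_singleton_iff.1 hy.2)
      · exact le_trans (le_inf inf_le_left (S.balance ha hg))
          (M.fixed_inf_le hL hall ha hg (Ne.symm hga) hTa (hTI g hg.1 hIg).2 hne)
    have hle : θ a ≤ L := S.gen3 (S.odd ha) (S.theta_norm ha) hu.1 hw.1 (step u hu hua)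
      (step w hw hwa) (step _ (S.mul_mem_pt hu hw (Ne.symm hwu)) huw)
    exact hne ((M.semi_akmax ha (hall a ha)).max L hL.mem hle).symm
  have hc : ¬ In c := by
    simp only [hIn, not_or]
    exact ⟨h.2.2.1.2, h.2.2.2.2.1.symm, h.2.2.2.2.2.1.symm, h.2.2.2.2.2.2⟩
  have hcp : ¬ In (c * p) := fun e => hc (by
    have := hmul _ _ e (Or.inr (Or.inl rfl))
    rwa [mul_assoc, S.sq h.1.1, mul_one] at this)
  have h2 := hTI (c * p) (mul_mem h.2.2.1.1 h.1.1) hcp
  exact mul_ne_left h.1.2 (M.semi_inj h2.1 h.2.2.1 (hall _ h2.1)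
    ((hLeq _ h2.1.1 hcp).trans (hLeq c h.2.2.1.1 hc).symm).le)

end Min

end CfsgLib.Signalizer2
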