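import Mathlib
import Cfsg.Agent.Lib.Signalizer2.AllSemi

/-!
# Completeness of signalizer functors for the prime two
-/

set_option autoImplicit false
set_option linter.style.haveILetI false
set_option linter.unusedSectionVars false

open scoped Pointwise

namespace CfsgLib.Signalizer2

open Cfsg Subgroup CfsgLib.Base CfsgLib.Signalizer CfsgLib.Components

universe u

variable {G : Type u} [Group G] [Finite G] {A : Subgroup G} {θ : G → Subgroup G}

/-- `v` lies below a pure `t`-member. -/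
def PureBelow (A : Subgroup G) (θ : G → Subgroup G) (t : ℕ) (v : G) : Prop :=
  Pt A v ∧ ∃ H, AKMax A θ H ∧ (∀ q, InS q H → q = t) ∧ θ v ≤ H

/-- `v` is moved with a mixed owner. -/
def MixedOwned (A : Subgroup G) (θ : G → Subgroup G) (t : ℕ) (v : G) : Prop :=
  ∃ J, Own A θ t v J ∧ Two J

namespace Min

variable (M : Min A θ)
include M

theorem pureBelow_le_two (t : ℕ) : {v | PureBelow A θ t v}.ncard ≤ 2 := by
  by_contra h
  push Not at h
  obtain ⟨a, b, c, ⟨ha, H, hH, hHp, haH⟩, ⟨hb, H', hH', hHp', hbH⟩, ⟨hc, H'', hH'', hHp'', hcH⟩,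
    hab, hac, hbc⟩ := (Set.two_lt_ncard_iff (Set.toFinite _)).1 h
  rw [← M.pure_eq hH hH' hHp hHp'] at hbH
  rw [← M.pure_eq hH hH'' hHp hHp''] at hcH
  exact M.no_three hH.mem ha hb hc hab hac hbc haH hbH hcH

section TwoPrimes

variable {x y : ℕ} (hπ : ∀ z, InPi A θ z → z = x ∨ z = y)
include hπ

theorem inS_of_two {J : Subgroup G} (hJ : Mem A θ J) (h2 : Two J) {z : ℕ} (hz : InPi A θ z) :
    InS z J := by
  obtain ⟨q, r, hne, hq, hr⟩ := h2
  rcases hπ z hz with rfl | rfl <;>
    rcases hπ q (M.toSetup.inPi_of_inS hJ hq) with rfl | rfl <;>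
    rcases hπ r (M.toSetup.inPi_of_inS hJ hr) with rfl | rfl <;>
    first | exact absurd rfl hne | assumption

theorem outside_pure {t : ℕ} {a b c : G} {J : Subgroup G} (o : Own A θ t c J) (h2 : Two J)
    (h : Indep A a b c) (hB : Bl A θ t c a b ≠ ⊥) (haJ : ¬ θ a ≤ J) : PureBelow A θ t a := by
  have S := M.toSetup
  haveI := Fact.mk o.prime
  obtain ⟨H, hH, hle⟩ := S.exists_akmax_theta h.1
  obtain ⟨s, hs, hsH⟩ := M.exists_missing o (Or.inl h2) h hB hH hle haJ
  refine ⟨h.1, H, hH, fun q hq => ?_, hle⟩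
  have htH : InS t H := ⟨o.prime, fun e =>
    hB (le_bot_iff.1 (e ▸ S.Bl_le_Oc h hH.mem ((S.Bl_le_theta h).trans hle)))⟩
  have hst : s ≠ t := fun e => hsH (e ▸ htH)
  have hsq : s ≠ q := fun e => hsH (e ▸ hq)
  rcases hπ q (S.inPi_of_inS hH.mem hq) with rfl | rfl <;>
    rcases hπ t (S.inPi_of_inS hH.mem htH) with rfl | rfl <;>
    rcases hπ s (S.inPi_of_inS o.ak.mem hs) with rfl | rfl <;>
    first | rfl | exact absurd rfl hst | exact absurd rfl hsq

theorem mixed_line {t : ℕ} {c : G} {J : Subgroup G} (o : Own A θ t c J) (h2 : Two J) :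
    ∃ a b, Indep A a b c ∧ Bl A θ t c a b ≠ ⊥ ∧ PureBelow A θ t a ∧ PureBelow A θ t b ∧
      θ (a * b) ≤ J := by
  have S := M.toSetup
  obtain ⟨a₀, b₀, h₀, hB₀⟩ := M.exists_Bl o
  obtain ⟨a, b, h, ha, hb, hB⟩ := M.exists_outside o h₀ hB₀
  have pa := M.outside_pure hπ o h2 h hB ha
  have pb := M.outside_pure hπ o h2 (S.indep_swap h) (by rwa [S.Bl_swap]) hb
  refine ⟨a, b, h, hB, pa, pb, ?_⟩
  by_contra hab
  have pab := M.outside_pure hπ o h2 (S.indep_swap (S.indep_mul h))
    (by rwa [S.Bl_swap, S.Bl_mul h.1.1]) hab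
  have := M.pureBelow_le_two t
  revert this
  rw [imp_false, not_le, Set.two_lt_ncard_iff (Set.toFinite _)]
  exact ⟨a, b, a * b, pa, pb, pab, h.2.2.2.1, (mul_ne_left h.2.1.2).symm, (mul_ne_right h.1.2).symm⟩

theorem mixedOwned_le_one (t : ℕ) : {v | MixedOwned A θ t v}.ncard ≤ 1 := by
  have S := M.toSetup
  rw [Set.ncard_le_one_iff]
  rintro c c' ⟨J, o, h2⟩ ⟨J', o', h2'⟩
  obtain ⟨a, b, h, hB, pa, pb, hg⟩ := M.mixed_line hπ o h2
  obtain ⟨a', b', h', hB', pa', pb', hg'⟩ := M.mixed_line hπ o' h2'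
  have hmem : ∀ v, PureBelow A θ t v → v = a ∨ v = b := by
    intro v pv
    by_contra hne
    push Not at hne
    have := M.pureBelow_le_two t
    revert this
    rw [imp_false, not_le, Set.two_lt_ncard_iff (Set.toFinite _)]
    exact ⟨a, b, v, pa, pb, pv, h.2.2.2.1, hne.1.symm, hne.2.symm⟩
  have hgg : a' * b' = a * b := by
    rcases hmem a' pa' with e | e <;> rcases hmem b' pb' with e' | e' <;> rw [e, e']
    · exact absurd (e.trans e'.symm) h'.2.2.2.1
    · exact S.comm h.2.1.1 h.1.1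
    · exact absurd (e.trans e'.symm) h'.2.2.2.1
  rw [hgg] at hg'
  have hBJ' : Bl A θ t c a b ≤ J' := (S.Bl_le_theta_mul h).trans hg'
  have hJJ : J = J' := M.eq_of_Zc o.ak o'.ak
    (fun q hq => (M.Zc_le_of_Bl o (Or.inl h2) h hB o'.ak.mem hBJ' hq).1)
    (fun q hq => M.inS_of_two hπ o'.ak.mem h2' (S.inPi_of_inS o.ak.mem hq))
  subst hJJ
  by_contra hne
  exact M.no_three o.ak.mem o.pt o'.pt (S.mul_mem_pt h.1 h.2.1 h.2.2.2.1) hne (S.third_ne h).symm
    (hgg ▸ (S.third_ne h').symm) (M.own_theta_le o) (M.own_theta_le o') hg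

end TwoPrimes

theorem absurd_min : False := by
  have S := M.toSetup
  by_cases h3 : Three A θ
  · exact M.false_of_all_semi fun v hv => M.all_semi_of_three h3 hv
  simp only [Three, not_forall, not_exists, not_and, not_not] at h3
  obtain ⟨x, y, hxy⟩ := h3
  have hπ : ∀ z, InPi A θ z → z = x ∨ z = y := fun z hz => by
    by_cases e : z = x
    exacts [Or.inl e, Or.inr (hxy z hz e)]
  have hsub : (A : Set G) \ {1} ⊆ ({v | PureBelow A θ x v} ∪ {v | PureBelow A θ y v}) ∪
      ({v | MixedOwned A θ x v} ∪ {v | MixedOwned A θ y v}) := by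
    rintro v ⟨hvA, hv1⟩
    have hv : Pt A v := ⟨hvA, hv1⟩
    have pure : ∀ t, InPi A θ t → PureBelow A θ t v →
        v ∈ ({v | PureBelow A θ x v} ∪ {v | PureBelow A θ y v}) := fun t ht hp => by
      rcases hπ t ht with rfl | rfl
      exacts [Or.inl hp, Or.inr hp]
    by_cases hs : Semi A θ v
    · have hA := M.semi_akmax hv hs
      obtain ⟨z, hz, hzv⟩ := M.semi_not_full hv hs
      obtain ⟨q, hq⟩ := M.exists_inS hA
      refine Or.inl (pure q (S.inPi_of_inS hA.mem hq) ⟨hv, θ v, hA, fun r hr => ?_, le_rfl⟩)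
      have hzq : z ≠ q := fun e => hzv (e ▸ hq)
      have hzr : z ≠ r := fun e => hzv (e ▸ hr)
      rcases hπ z hz with rfl | rfl <;> rcases hπ q (S.inPi_of_inS hA.mem hq) with rfl | rfl <;>
        rcases hπ r (S.inPi_of_inS hA.mem hr) with rfl | rfl <;>
        first | rfl | exact absurd rfl hzq | exact absurd rfl hzr
    obtain ⟨t, J, o⟩ := M.exists_own_of_not_semi hv hs
    have ht := S.inPi_of_inS o.ak.mem (M.own_inS o)
    by_cases h2 : Two J
    · refine Or.inr ?_
      rcases hπ t ht with rfl | rfl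
      exacts [Or.inl ⟨J, o, h2⟩, Or.inr ⟨J, o, h2⟩]
    · exact Or.inl (pure t ht ⟨hv, J, o.ak,
        fun q hq => by_contra fun hne => h2 ⟨q, t, hne, hq, M.own_inS o⟩, M.own_theta_le o⟩)
  have hcard : ((A : Set G) \ {1}).ncard = 7 := by
    rw [Set.ncard_sdiff_singleton_of_mem (one_mem A), ← Nat.card_coe_set_eq]
    exact congrArg (· - 1) S.card
  have h := (Set.ncard_le_ncard hsub (Set.toFinite _)).trans
    ((Set.ncard_union_le _ _).trans (Nat.add_le_add (Set.ncard_union_le _ _) (Set.ncard_union_le _ _)))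
  have := M.pureBelow_le_two x
  have := M.pureBelow_le_two y
  have := M.mixedOwned_le_one hπ x
  have := M.mixedOwned_le_one hπ y
  omega

end Min

/-- Signalizer functors for the prime two on elementary abelian groups of order eight are complete. -/
theorem complete {G : Type u} [Group G] [Finite G] {A : Subgroup G} {θ : G → Subgroup G}
    (S : Setup A θ) : Complete A θ := by
  suffices key : ∀ n, ∀ (G : Type u) [Group G] [Finite G], Nat.card G = n →
      ∀ m, ∀ (A : Subgroup G) (θ : G → Subgroup G), wt A θ = m → Setup A θ → Complete A θ from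
    key _ G rfl _ A θ rfl S
  intro n
  induction n using Nat.strong_induction_on with
  | _ n ih =>
  intro G _ _ hn m
  induction m using Nat.strong_induction_on with
  | _ m ih' =>
  intro A θ hm S
  by_contra hc
  exact Min.absurd_min
    { toSetup := S
      incomplete := hc
      group_ih := fun H _ _ hlt A' θ' S' => ih _ (hn ▸ hlt) H rfl _ A' θ' rfl S'
      functor_ih := fun θ' S' hlt => ih' _ (hm ▸ hlt) A θ' rfl S' }

end CfsgLib.Signalizer2
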