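import Mathlib
import Cfsg.Agent.Lib.Signalizer2.Main
import Cfsg.Agent.Lib.Components.PConstrained
import Cfsg.Agent.Lib.Components.LocalBalanceCenter
import Cfsg.Agent.Lib.PGroups.Basic

/-!
# Odd cores of centralizers of involutions when the 2-local subgroups are 2-constrained
-/

set_option autoImplicit false
set_option linter.style.haveILetI false
set_option linter.unusedSectionVars false

open scoped Pointwise

namespace CfsgLib.Signalizer2

open Cfsg Subgroup CfsgLib.Base CfsgLib.Signalizer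

universe u

variable {G : Type u} [Group G] [Finite G]

/-- All normalizers of nontrivial `2`-subgroups are `2`-constrained. -/
def LocalsConstrained (G : Type u) [Group G] : Prop :=
  ∀ T : Subgroup G, IsPGroup 2 T → T ≠ ⊥ → IsPConstrained 2 ↥(normalizer (T : Set G))

theorem normalizer_zpowers_of_sq {a : G} (ha : a * a = 1) (ha1 : a ≠ 1) :
    normalizer (zpowers a : Set G) = centralizer ({a} : Set G) := by
  refine le_antisymm (fun g hg => ?_) fun g hg => ?_
  · rw [mem_centralizer_singleton_iff_conj]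
    have h : g * a * g⁻¹ ∈ zpowers a := (mem_normalizer_iff.1 hg a).1 (mem_zpowers a)
    obtain ⟨k, hk⟩ := mem_zpowers_iff.1 h
    have h2 : a ^ (2 : ℤ) = 1 := by rw [zpow_two, ha]
    rcases Int.even_or_odd' k with ⟨j, rfl | rfl⟩
    · rw [zpow_mul, h2, one_zpow] at hk
      exact absurd (conj_eq_one_iff.1 hk.symm) ha1
    · rw [zpow_add, zpow_mul, h2, one_zpow, one_mul, zpow_one] at hk
      calc a * g * a⁻¹ = (g * a * g⁻¹) * g * a⁻¹ := by rw [← hk]
        _ = g := by group
  · refine centralizer_le_normalizer _ ?_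
    rwa [← SetLike.mem_coe, zpowers_eq_closure, SetLike.mem_coe, centralizer_closure]

theorem isPGroup_zpowers {b : G} {n : ℕ} (hb : b ^ 2 ^ n = 1) : IsPGroup 2 (zpowers b) := by
  rintro ⟨x, hx⟩
  obtain ⟨j, rfl⟩ := mem_zpowers_iff.1 hx
  exact ⟨n, Subtype.ext (by
    rw [SubmonoidClass.coe_pow, OneMemClass.coe_one, ← zpow_natCast, ← zpow_mul, mul_comm, zpow_mul,
      zpow_natCast, hb, one_zpow])⟩

variable (h2c : LocalsConstrained G)
include h2c

/-- Balance. -/
theorem core_inf_centralizer_le {b a : G} {n : ℕ} (hb : b ^ 2 ^ n = 1) (ha : a * a = 1) (ha1 : a ≠ 1)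
    (hab : Commute b a) :
    centralizerPPrimeCore 2 b ⊓ centralizer ({a} : Set G) ≤ centralizerPPrimeCore 2 a := by
  haveI : Fact (Nat.Prime 2) := ⟨Nat.prime_two⟩
  set X := centralizer ({a} : Set G) with hX
  have hXc : IsPConstrained 2 ↥X := by
    have := h2c (zpowers a) (isPGroup_zpowers (n := 1) (by rw [pow_one, _root_.sq, ha]))
      (zpowers_ne_bot.2 ha1)
    rwa [normalizer_zpowers_of_sq ha ha1] at this
  set bX : X := ⟨b, mem_centralizer_singleton_iff.2 hab.eq⟩
  set P : Subgroup X := zpowers bX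
  have hP : IsPGroup 2 P := isPGroup_zpowers (n := n) (Subtype.ext (by simpa using hb))
  set Y := centralizerPPrimeCore 2 b ⊓ X with hY
  have h1 : Y.subgroupOf X ≤
      (pPrimeCore 2 ↥(centralizer (P : Set X))).map (centralizer (P : Set X)).subtype := by
    refine le_map_pPrimeCore ?_ ?_ ?_
    · intro y hy
      refine mem_centralizer_iff.2 fun z hz => ?_
      obtain ⟨j, rfl⟩ := mem_zpowers_iff.1 hz
      have hyb : Commute (y : G) b :=
        mem_centralizer_singleton_iff.1 (map_subtype_le _ (mem_subgroupOf.1 hy).1)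
      exact Subtype.ext (by simpa [bX] using (hyb.zpow_right j).eq.symm)
    · intro g hg
      have hgb : (g : G) ∈ centralizer ({b} : Set G) := mem_centralizer_singleton_iff.2
        (congrArg Subtype.val (mem_centralizer_iff.1 hg bX (mem_zpowers bX))).symm
      have hgY : (g : G) ∈ normalizer (Y : Set G) :=
        ((le_inf ((inf_le_left (b := X)).trans (le_normalizer_map_pPrimeCore _))
          (inf_le_right.trans le_normalizer)).trans inf_normalizer_le_normalizer_inf)
          (mem_inf.2 ⟨hgb, g.2⟩)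
      exact mem_normalizer_iff.2 fun x => mem_normalizer_iff.1 hgY (x : G)
    · rw [card_subgroupOf inf_le_right]
      exact (coprime_card_map_pPrimeCore _).coprime_dvd_left (card_dvd_of_le inf_le_left)
  have h2 : Y.subgroupOf X ≤ pPrimeCore 2 ↥X := by
    refine h1.trans ((map_pPrimeCore_le_of_normal_subgroupOf (centralizer_le_normalizer _)
      (normal_subgroupOf_of_le_normalizer (CfsgLib.PLocal.normalizer_le_centralizer_normalizer _))).trans ?_)
    rw [CfsgLib.PLocal.map_pPrimeCore_normalizer hXc hP]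
    exact inf_le_left
  calc Y = (Y.subgroupOf X).map X.subtype := (map_subgroupOf_eq_of_le inf_le_right).symm
    _ ≤ _ := map_mono h2

theorem core_le_core_of_pow {b : G} {n : ℕ} (hn : b ^ 2 ^ (n + 1) = 1) (hne : b ^ 2 ^ n ≠ 1) :
    centralizerPPrimeCore 2 b ≤ centralizerPPrimeCore 2 (b ^ 2 ^ n) := by
  refine le_trans (le_inf le_rfl fun y hy => ?_)
    (core_inf_centralizer_le h2c (n := n + 1) hn (by rw [← pow_add, ← two_mul, ← pow_succ', hn]) hne
      (Commute.self_pow b _))
  exact mem_centralizer_singleton_iff.2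
    ((show Commute y b from mem_centralizer_singleton_iff.1 (map_subtype_le _ hy)).pow_right _).eq

/-- Two commuting distinct involutions. -/
structure Four (u v : G) : Prop where
  su : u * u = 1
  sv : v * v = 1
  u1 : u ≠ 1
  v1 : v ≠ 1
  ne : u ≠ v
  comm : Commute u v

omit h2c in
theorem Four.mul_ne_one {u v : G} (h : Four u v) : u * v ≠ 1 := fun e =>
  h.ne (by rw [eq_inv_of_mul_eq_one_left e, inv_eq_self_of_sq h.sv])

omit h2c in
theorem Four.sq_mul {u v : G} (h : Four u v) : u * v * (u * v) = 1 := by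
  rw [mul_assoc, ← mul_assoc v, h.comm.symm.eq, mul_assoc u v, h.sv, mul_one, h.su]

/-- The subgroup generated by the cores of a four-group. -/
def Wpair (u v : G) : Subgroup G :=
  centralizerPPrimeCore 2 u ⊔ centralizerPPrimeCore 2 v ⊔ centralizerPPrimeCore 2 (u * v)

theorem core_le_Wpair {a u v : G} (h : Four u v) (ha : a * a = 1) (hau : Commute a u)
    (hav : Commute a v) : centralizerPPrimeCore 2 a ≤ Wpair u v := by
  haveI : Fact (Nat.Prime 2) := ⟨Nat.prime_two⟩
  set H := centralizerPPrimeCore 2 a with hH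
  set V := zpowers u ⊔ zpowers v
  have hV : IsElementaryAbelian 2 V := isElementaryAbelian_sup
    (isElementaryAbelian_zpowers (by rw [_root_.sq, h.su]))
    (isElementaryAbelian_zpowers (by rw [_root_.sq, h.sv])) fun x hx => by
      obtain ⟨i, rfl⟩ := mem_zpowers_iff.1 hx
      refine mem_centralizer_iff.2 fun y hy => ?_
      obtain ⟨j, rfl⟩ := mem_zpowers_iff.1 hy
      exact ((h.comm.zpow_right j).zpow_left i).eq.symm
  haveI := hV.1
  have hVC : V ≤ centralizer ({a} : Set G) := sup_le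
    (zpowers_le.2 (mem_centralizer_singleton_iff.2 hau.eq.symm))
    (zpowers_le.2 (mem_centralizer_singleton_iff.2 hav.eq.symm))
  have hodd : (Nat.card H).Coprime 2 := coprime_card_map_pPrimeCore _
  obtain ⟨m, hm⟩ := IsPGroup.iff_card.1 (isPGroup_of_isElementaryAbelian hV)
  have piece : ∀ w, w * w = 1 → w ≠ 1 → Commute a w →
      H ⊓ centralizer ({w} : Set G) ≤ centralizerPPrimeCore 2 w := fun w hw hw1 haw =>
    core_inf_centralizer_le h2c (n := 1) (by rw [pow_one, _root_.sq, ha]) hw hw1 haw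
  refine CfsgLib.Coprime.le_of_centralizer_le Nat.prime_two
    (hVC.trans (le_normalizer_map_pPrimeCore _)) (by rw [hm]; exact hodd.symm.pow_left m) hodd
    (mem_sup_left (mem_zpowers u)) (mem_sup_right (mem_zpowers v))
    (by rw [_root_.sq, h.su]; exact one_mem _) (by rw [_root_.sq, h.sv]; exact one_mem _)
    ((piece v h.sv h.v1 hav).trans (le_sup_right.trans le_sup_left)) fun i hi => ?_
  interval_cases i
  · rw [pow_zero, mul_one]
    exact (piece u h.su h.u1 hau).trans (le_sup_left.trans le_sup_left)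
  · rw [pow_one]
    exact (piece _ h.sq_mul h.mul_ne_one (hau.mul_right hav)).trans le_sup_right

theorem Wpair_eq {u v x y : G} (h : Four u v) (h' : Four x y) (h1 : Commute u x) (h2 : Commute u y)
    (h3 : Commute v x) (h4 : Commute v y) : Wpair u v = Wpair x y :=
  le_antisymm (sup_le (sup_le (core_le_Wpair h2c h' h.su h1 h2) (core_le_Wpair h2c h' h.sv h3 h4))
      (core_le_Wpair h2c h' h.sq_mul (h1.mul_left h3) (h2.mul_left h4)))
    (sup_le (sup_le (core_le_Wpair h2c h h'.su h1.symm h3.symm) (core_le_Wpair h2c h h'.sv h2.symm h4.symm))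
      (core_le_Wpair h2c h h'.sq_mul (h1.symm.mul_left h2.symm) (h3.symm.mul_left h4.symm)))

/-- The cores of the four-groups of `S` all generate the same subgroup, which has odd order. -/
theorem exists_Wpair {S E : Subgroup G} (hS : IsPGroup 2 S) (hE : IsElementaryAbelian 2 E)
    (hES : E ≤ S) (hSE : S ≤ normalizer (E : Set G)) (h5 : 4 < Nat.card E) :
    ∃ W : Subgroup G, Odd (Nat.card W) ∧
      (∀ u ∈ S, ∀ v ∈ S, Four u v → Wpair u v = W) ∧
      ∀ b ∈ S, b * b = 1 → b ≠ 1 → centralizerPPrimeCore 2 b ≤ W := by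
  haveI : Fact (Nat.Prime 2) := ⟨Nat.prime_two⟩
  have hEc : ∀ x ∈ E, ∀ y ∈ E, Commute x y := fun x hx y hy => elemAb_comm hE hx hy
  have hEsq : ∀ x ∈ E, x * x = 1 := fun x hx => by rw [← _root_.sq]; exact hE.2 x hx
  obtain ⟨z, hzE, hz1, hzS⟩ : ∃ z ∈ E, z ≠ 1 ∧ ∀ x ∈ S, Commute z x := by
    haveI : (E.subgroupOf S).Normal := normal_subgroupOf_of_le_normalizer hSE
    have hne : E.subgroupOf S ≠ ⊥ := fun e => by
      have := card_subgroupOf hES
      rw [e, Subgroup.card_bot] at this
      omega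
    obtain ⟨⟨z, hz⟩, hz1⟩ := (Subgroup.ne_bot_iff_exists_ne_one).1
      (CfsgLib.PGroups.inf_center_ne_bot hS hne)
    exact ⟨z, mem_subgroupOf.1 hz.1, fun e => hz1 (Subtype.ext (Subtype.ext e)),
      fun x hx => (congrArg Subtype.val (mem_center_iff.1 hz.2 ⟨x, hx⟩) : _).symm⟩
  have hz2 := hEsq z hzE
  -- fixed points of an involution on `E`
  have hfix : ∀ w ∈ S, w * w = 1 → ∃ e ∈ E, e ≠ 1 ∧ e ≠ z ∧ Commute e w := by
    intro w hw hw2
    have hwi := inv_eq_self_of_sq hw2
    by_contra hne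
    push Not at hne
    have hconj : ∀ x ∈ E, w * x * w⁻¹ ∈ E := fun x hx => (mem_normalizer_iff.1 (hSE hw) x).1 hx
    have hmem : ∀ x ∈ E, Commute x w → x ∈ zpowers z := by
      intro x hx hxw
      by_cases e1 : x = 1
      · rw [e1]; exact one_mem _
      by_cases ez : x = z
      · rw [ez]; exact mem_zpowers _
      exact absurd hxw (hne x hx e1 ez)
    let φ : E →* E :=
      { toFun := fun x => ⟨(x : G) * (w * (x : G) * w⁻¹), mul_mem x.2 (hconj _ x.2)⟩
        map_one' := Subtype.ext (by simp)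
        map_mul' := fun x y => Subtype.ext (by
          show (x : G) * y * (w * ((x : G) * y) * w⁻¹) =
            (x : G) * (w * (x : G) * w⁻¹) * ((y : G) * (w * (y : G) * w⁻¹))
          have hxy : (y : G) * (w * (x : G) * w⁻¹) = (w * (x : G) * w⁻¹) * y :=
            hEc _ y.2 _ (hconj _ x.2)
          calc (x : G) * y * (w * ((x : G) * y) * w⁻¹)
              = (x : G) * ((y : G) * (w * (x : G) * w⁻¹)) * (w * (y : G) * w⁻¹) := by group
            _ = _ := by rw [hxy]; group) }
    have hr : φ.range.map E.subtype ≤ zpowers z := by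
      rintro _ ⟨_, ⟨x, rfl⟩, rfl⟩
      refine hmem _ (φ x).2 ?_
      show Commute ((x : G) * (w * (x : G) * w⁻¹)) w
      have e : w * ((x : G) * (w * (x : G) * w⁻¹)) * w⁻¹ = (x : G) * (w * (x : G) * w⁻¹) := by
        calc w * ((x : G) * (w * (x : G) * w⁻¹)) * w⁻¹
            = (w * (x : G) * w⁻¹) * ((w * w) * (x : G) * (w * w)⁻¹) := by group
          _ = _ := by rw [hw2, one_mul, inv_one, mul_one]; exact hEc _ (hconj _ x.2) _ x.2
      exact (mul_inv_eq_iff_eq_mul.1 e).symm
    have hk : φ.ker.map E.subtype ≤ zpowers z := by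
      rintro _ ⟨x, hx, rfl⟩
      refine hmem _ x.2 ?_
      have e : (x : G) * (w * (x : G) * w⁻¹) = 1 := congrArg Subtype.val hx
      have e' : w * (x : G) * w⁻¹ = x := by
        rw [eq_inv_of_mul_eq_one_right e, inv_eq_self_of_sq (hEsq x x.2)]
      exact (mul_inv_eq_iff_eq_mul.1 e').symm
    have hz : Nat.card (zpowers z) ≤ 2 := by
      rw [Nat.card_zpowers]
      exact Nat.le_of_dvd two_pos (orderOf_dvd_of_pow_eq_one (by rw [_root_.sq, hz2]))
    have h1 : Nat.card φ.range ≤ 2 := (card_map_subtype φ.range).symm.trans_le ((card_le_of_le hr).trans hz)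
    have h2 : Nat.card φ.ker ≤ 2 := (card_map_subtype φ.ker).symm.trans_le ((card_le_of_le hk).trans hz)
    have h3 := Subgroup.card_mul_index φ.ker
    rw [Subgroup.index_ker] at h3
    have := Nat.mul_le_mul h2 h1
    omega
  obtain ⟨e₀, he₀E, he₀1, he₀z, -⟩ := hfix 1 (one_mem _) (one_mul 1)
  have h₀ : Four z e₀ := ⟨hz2, hEsq _ he₀E, hz1, he₀1, Ne.symm he₀z, hEc _ hzE _ he₀E⟩
  set W := Wpair z e₀ with hW
  have hE' : ∀ e ∈ E, e ≠ 1 → e ≠ z → Wpair z e = W := fun e he e1 ez =>
    Wpair_eq h2c ⟨hz2, hEsq e he, hz1, e1, Ne.symm ez, hEc _ hzE _ he⟩ h₀ (hEc _ hzE _ hzE)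
      (hEc _ hzE _ he₀E) (hEc _ he _ hzE) (hEc _ he _ he₀E)
  have hz' : ∀ w ∈ S, w * w = 1 → w ≠ 1 → w ≠ z → Wpair z w = W := by
    intro w hw hw2 hw1 hwz
    obtain ⟨e, he, e1, ez, hew⟩ := hfix w hw hw2
    rw [← hE' e he e1 ez]
    exact Wpair_eq h2c ⟨hz2, hw2, hz1, hw1, Ne.symm hwz, hzS w hw⟩
      ⟨hz2, hEsq e he, hz1, e1, Ne.symm ez, hEc _ hzE _ he⟩ (Commute.refl z) (hEc _ hzE _ he)
      (hzS w hw).symm hew.symm
  have hpair : ∀ u ∈ S, ∀ v ∈ S, Four u v → Wpair u v = W := by
    intro u hu v hv h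
    by_cases huz : u = z
    · rw [huz]
      exact hz' v hv h.sv h.v1 fun e => h.ne (huz.trans e.symm)
    rw [← hz' u hu h.su h.u1 huz]
    exact Wpair_eq h2c h ⟨hz2, h.su, hz1, h.u1, Ne.symm huz, hzS u hu⟩ (hzS u hu).symm (Commute.refl u)
      (hzS v hv).symm h.comm.symm
  refine ⟨W, ?_, hpair, fun b hb hb2 hb1 => ?_⟩
  · obtain ⟨E₈, hE₈⟩ : ∃ E₈ : Subgroup E, Nat.card E₈ = 2 ^ 3 := by
      refine Sylow.exists_subgroup_card_pow_prime 2 ?_
      obtain ⟨m, hm⟩ := IsPGroup.iff_card.1 (isPGroup_of_isElementaryAbelian hE)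
      rw [hm] at h5 ⊢
      refine pow_dvd_pow 2 ?_
      by_contra hlt
      have := Nat.pow_le_pow_right two_pos (show m ≤ 2 by omega)
      omega
    set A := E₈.map E.subtype with hA
    have hAE : A ≤ E := map_subtype_le _
    have hAel : IsElementaryAbelian 2 A := isElementaryAbelian_iff.2
      ⟨fun x hx y hy => (hEc x (hAE hx) y (hAE hy)).eq, fun x hx => hE.2 x (hAE hx)⟩
    have hcard : Nat.card A = 8 := by rw [hA, card_map_subtype, hE₈]; norm_num
    set θ : G → Subgroup G := fun a => centralizerPPrimeCore 2 a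
    have S' : Setup A θ := ⟨hAel, hcard, fun a _ _ => map_subtype_le _,
      fun a _ _ h => by
        have := coprime_card_map_pPrimeCore (p := 2) (centralizer ({a} : Set G))
        exact Nat.prime_two.coprime_iff_not_dvd.1 this.symm h,
      fun a ha _ b hb x hx => (mem_normalizer_iff.1 (le_normalizer_map_pPrimeCore _
        (mem_centralizer_singleton_iff.2 (hEc b (hAE hb) a (hAE ha)).eq)) x).1 hx,
      fun a ha _ b hb hb1 => core_inf_centralizer_le h2c (n := 1)
        (by rw [pow_one]; exact hE.2 a (hAE ha)) (hEsq b (hAE hb)) hb1 (hEc a (hAE ha) b (hAE hb))⟩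
    obtain ⟨X, hX, hXθ⟩ := complete S'
    obtain ⟨u, v, c, hu, hv, -, huv, -⟩ := S'.exists_indep
    have h := hpair u (hES (hAE hu.1)) v (hES (hAE hv.1))
      ⟨S'.sq hu.1, S'.sq hv.1, hu.2, hv.2, huv, hEc u (hAE hu.1) v (hAE hv.1)⟩
    refine card_odd_of_le ?_ (S'.mem_odd hX)
    rw [← h]
    exact sup_le (sup_le (hXθ u hu) (hXθ v hv)) (hXθ _ (S'.mul_mem_pt hu hv huv))
  · by_cases hbz : b = z
    · rw [hbz]; exact le_sup_left.trans le_sup_left
    · rw [← hz' b hb hb2 hb1 hbz]; exact le_sup_right.trans le_sup_left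

end CfsgLib.Signalizer2
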