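import Mathlib
import Cfsg.Agent.Lib.Signalizer2.ConstrainedCore

/-!
# The subgroup generated by the odd cores on a Sylow 2-subgroup
-/

set_option autoImplicit false
set_option linter.style.haveILetI false
set_option linter.unusedSectionVars false

open scoped Pointwise

namespace CfsgLib.Signalizer2

open Cfsg Subgroup CfsgLib.Base

universe u

variable {G : Type u} [Group G] [Finite G]

/-- A subgroup of 2-rank at least two contains two commuting involutions. -/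
theorem exists_four {B : Subgroup G} (hB : ¬ PRankLE 2 1 ↥B) : ∃ u ∈ B, ∃ v ∈ B, Four u v := by
  simp only [PRankLE, not_forall, not_le] at hB
  obtain ⟨A, hA, hA2, hcard⟩ := hB
  rw [pow_one, ← SetLike.coe_sort_coe, Nat.card_coe_set_eq, Set.two_lt_ncard_iff (Set.toFinite _)] at hcard
  obtain ⟨a, b, c, ha, hb, hc, hab, hac, hbc⟩ := hcard
  have mk : ∀ x y : B, x ∈ A → y ∈ A → x ≠ 1 → y ≠ 1 → x ≠ y → Four (x : G) y := by
    intro x y hx hy x1 y1 hne
    refine ⟨?_, ?_, fun e => x1 (Subtype.ext e), fun e => y1 (Subtype.ext e),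
      fun e => hne (Subtype.ext e), congrArg Subtype.val (congrArg Subtype.val (hA.is_comm.comm ⟨x, hx⟩ ⟨y, hy⟩))⟩
    · simpa [_root_.sq] using congrArg Subtype.val (hA2 x hx)
    · simpa [_root_.sq] using congrArg Subtype.val (hA2 y hy)
  by_cases ha1 : a = 1
  · exact ⟨b, b.2, c, c.2, mk b c hb hc (ha1 ▸ hab.symm) (ha1 ▸ hac.symm) hbc⟩
  by_cases hb1 : b = 1
  · exact ⟨a, a.2, c, c.2, mk a c ha hc ha1 (hb1 ▸ hbc.symm) hac⟩
  exact ⟨a, a.2, b, b.2, mk a b ha hb ha1 hb1 hab⟩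

/-- A normal abelian subgroup of rank at least three of one Sylow subgroup yields a normal elementary
abelian subgroup of order more than four of any Sylow subgroup. -/
theorem exists_elemAb_normal (S : Sylow 2 G) (A : Subgroup ↥(S : Subgroup G)) (hAn : A.Normal)
    (hAab : IsMulCommutative ↥A) (hA3 : ¬ PRankLE 2 2 ↥A) (S' : Sylow 2 G) :
    ∃ E : Subgroup G, IsElementaryAbelian 2 E ∧ E ≤ (S' : Subgroup G) ∧
      (S' : Subgroup G) ≤ normalizer (E : Set G) ∧ 4 < Nat.card E := by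
  haveI := hAab
  have hc : ∀ x ∈ A, ∀ y ∈ A, Commute x y := fun x hx y hy =>
    congrArg Subtype.val (mul_comm' (⟨x, hx⟩ : A) ⟨y, hy⟩)
  let Om : Subgroup ↥(S : Subgroup G) :=
    { carrier := {x | x ∈ A ∧ x ^ 2 = 1}
      mul_mem' := fun {a b} ha hb => ⟨mul_mem ha.1 hb.1,
        by rw [Commute.mul_pow (hc a ha.1 b hb.1), ha.2, hb.2, one_mul]⟩
      one_mem' := ⟨one_mem _, one_pow _⟩
      inv_mem' := fun {a} ha => ⟨inv_mem ha.1, by rw [inv_pow, ha.2, inv_one]⟩ }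
  have hOn : Om.Normal := ⟨fun x hx g => ⟨hAn.conj_mem x hx.1 g, by
    rw [conj_pow, hx.2, mul_one, mul_inv_cancel]⟩⟩
  simp only [PRankLE, not_forall, not_le] at hA3
  obtain ⟨B, -, hB2, hcard⟩ := hA3
  have h4 : 4 < Nat.card Om := by
    have hle : B.map A.subtype ≤ Om := by
      rintro _ ⟨x, hx, rfl⟩
      exact ⟨x.2, by simpa using congrArg Subtype.val (hB2 x hx)⟩
    have := card_le_of_le hle
    rw [card_map_subtype] at this
    omega
  let e := Sylow.equiv S S'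
  set E₁ := Om.map e.toMonoidHom with hE₁
  haveI : E₁.Normal := Normal.map hOn _ e.surjective
  refine ⟨E₁.map (S' : Subgroup G).subtype, ?_, map_subtype_le _, ?_, ?_⟩
  · refine isElementaryAbelian_iff.2 ⟨?_, ?_⟩
    · rintro _ ⟨_, ⟨x, hx, rfl⟩, rfl⟩ _ ⟨_, ⟨y, hy, rfl⟩, rfl⟩
      rw [← map_mul, ← map_mul, ← map_mul, ← map_mul, (hc x hx.1 y hy.1).eq]
    · rintro _ ⟨_, ⟨x, hx, rfl⟩, rfl⟩
      rw [← map_pow, ← map_pow, hx.2, map_one, map_one]
  · refine CfsgLib.Components.le_normalizer_of_conj_mem ?_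
    rintro g hg _ ⟨y, hy, rfl⟩
    exact ⟨⟨g, hg⟩ * y * ⟨g, hg⟩⁻¹, ‹E₁.Normal›.conj_mem y hy _, rfl⟩
  · rw [card_map_subtype, hE₁]
    exact h4.trans_eq (Nat.card_congr (Om.equivMapOfInjective _ e.injective).toEquiv)

theorem exists_core_generated (h2c : LocalsConstrained G) (S : Sylow 2 G)
    (A : Subgroup ↥(S : Subgroup G)) (hAn : A.Normal) (hAab : IsMulCommutative ↥A)
    (hA3 : ¬ PRankLE 2 2 ↥A) (S' : Sylow 2 G) :
    ∃ W : Subgroup G, Odd (Nat.card ↥W) ∧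
      ∀ B : Subgroup G, B ≤ (S' : Subgroup G) → ¬ PRankLE 2 1 ↥B →
        W = (⨆ b : {b : G // b ∈ B ∧ b ≠ 1}, centralizerPPrimeCore 2 (b : G)) ∧
        normalizer (B : Set G) ≤ normalizer (W : Set G) := by
  haveI : Fact (Nat.Prime 2) := ⟨Nat.prime_two⟩
  obtain ⟨E, hE, hES, hSE, h5⟩ := exists_elemAb_normal S A hAn hAab hA3 S'
  obtain ⟨W, hodd, hpair, hle⟩ := exists_Wpair h2c S'.isPGroup' hE hES hSE h5
  refine ⟨W, hodd, fun B hB hr => ?_⟩
  have heq : W = ⨆ b : {b : G // b ∈ B ∧ b ≠ 1}, centralizerPPrimeCore 2 (b : G) := by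
    obtain ⟨u, hu, v, hv, h⟩ := exists_four hr
    refine le_antisymm ?_ (iSup_le fun b => ?_)
    · rw [← hpair u (hB hu) v (hB hv) h]
      exact sup_le (sup_le (le_iSup_of_le ⟨u, hu, h.u1⟩ le_rfl) (le_iSup_of_le ⟨v, hv, h.v1⟩ le_rfl))
        (le_iSup_of_le ⟨u * v, mul_mem hu hv, h.mul_ne_one⟩ le_rfl)
    · obtain ⟨b, hb, hb1⟩ := b
      have hex : ∃ k, b ^ 2 ^ k = 1 := by
        obtain ⟨k, hk⟩ := S'.isPGroup' (⟨b, hB hb⟩ : (S' : Subgroup G))
        exact ⟨k, congrArg Subtype.val hk⟩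
      classical
      obtain ⟨n, hn⟩ : ∃ n, Nat.find hex = n + 1 := Nat.exists_eq_succ_of_ne_zero fun e => hb1 (by
        simpa [e] using Nat.find_spec hex)
      have h1 : b ^ 2 ^ (n + 1) = 1 := hn ▸ Nat.find_spec hex
      have h2 : b ^ 2 ^ n ≠ 1 := Nat.find_min hex (by omega)
      exact (core_le_core_of_pow h2c h1 h2).trans (hle _ (hB (pow_mem hb _))
        (by rw [← pow_add, ← two_mul, ← pow_succ', h1]) h2)
  refine ⟨heq, ?_⟩
  rw [heq]
  refine CfsgLib.Components.le_normalizer_of_conj_mem fun g hg x hx => ?_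
  have hmap : (⨆ b : {b : G // b ∈ B ∧ b ≠ 1}, centralizerPPrimeCore 2 (b : G)).map
      (MulAut.conj g).toMonoidHom ≤ ⨆ b : {b : G // b ∈ B ∧ b ≠ 1}, centralizerPPrimeCore 2 (b : G) := by
    rw [Subgroup.map_iSup]
    refine iSup_le fun b => ?_
    refine (CfsgLib.Components.map_centralizerPPrimeCore_le (MulAut.conj g) (b : G)).trans ?_
    exact le_iSup_of_le ⟨g * b * g⁻¹, (mem_normalizer_iff.1 hg _).1 b.2.1,
      fun e => b.2.2 (conj_eq_one_iff.1 e)⟩ le_rfl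
  exact hmap ⟨x, hx, rfl⟩

end CfsgLib.Signalizer2
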